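import Cfsg.Agent.H4.ThreeDegrees.Tools
import Cfsg.Agent.H13.Gallagher
import Cfsg.Agent.H12.InvConstituents

/-!
Characters over a normal subgroup with cyclic quotient.
-/

set_option autoImplicit false
set_option linter.style.haveILetI false
set_option linter.unusedSectionVars false

open Cfsg H13

namespace H4.NoDiv

universe u

variable {X : Type u} [Group X] [Finite X] (Y : Subgroup X) [Y.Normal]

/-- An extension to the inertia subgroup. -/
theorem exists_inertia_extension [IsCyclic (X ⧸ Y)] [Fintype X] [Fintype Y] (φ : IrrCharacter Y)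
    (hY : Y ≤ inertia Y (φ : Y → ℂ)) :
    ∃ σ : inertia Y (φ : Y → ℂ) → ℂ, IsIrrCharacter (inertia Y (φ : Y → ℂ)) σ ∧
      resTo hY σ = (φ : Y → ℂ) := by
  classical
  set T := inertia Y (φ : Y → ℂ) with hT
  haveI := Fintype.ofFinite T
  let ι := Subgroup.subgroupOfEquivOfLe hY
  obtain ⟨d, ρ', hρ', hρφ⟩ := isIrrCharacter_comp_equiv ι φ.2
  haveI := hρ'
  have hcyc : IsCyclic (T ⧸ Y.subgroupOf T) := by
    let f : T ⧸ Y.subgroupOf T →* X ⧸ Y :=
      QuotientGroup.lift _ ((QuotientGroup.mk' Y).comp T.subtype) (fun t ht => by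
        rw [MonoidHom.mem_ker, MonoidHom.comp_apply, QuotientGroup.mk'_apply,
          QuotientGroup.eq_one_iff]
        exact ht)
    refine isCyclic_of_injective f ?_
    rw [← MonoidHom.ker_eq_bot_iff, QuotientGroup.ker_lift]
    refine (Subgroup.map_eq_bot_iff _).2 ?_
    rw [QuotientGroup.ker_mk']
    intro t ht
    rw [MonoidHom.mem_ker, MonoidHom.comp_apply, QuotientGroup.mk'_apply,
      QuotientGroup.eq_one_iff] at ht
    exact ht
  have hchar : ∀ r : Y.subgroupOf T, ρ'.character r = (φ : Y → ℂ) (ι r) := fun r =>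
    congrFun hρφ r
  obtain ⟨σ, hσ, hres⟩ := H15.extends_of_cyclic (ρ := ρ') (fun g r => by
    rw [hchar, hchar]
    have hg := congrFun ((mem_inertia Y).1 g.2) (ι r)
    rw [twist_apply] at hg
    refine Eq.trans ?_ hg
    congr 1) hcyc
  refine ⟨σ, hσ, funext fun y => ?_⟩
  have h := hres (ι.symm y)
  rw [hchar, MulEquiv.apply_symm_apply] at h
  exact h

/-- A character over `φ` induced from an extension to the inertia subgroup. -/
theorem exists_over_extension [IsCyclic (X ⧸ Y)] [Fintype X] [Fintype Y] (φ : IrrCharacter Y) :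
    ∃ (hY : Y ≤ inertia Y (φ : Y → ℂ)) (σ : inertia Y (φ : Y → ℂ) → ℂ) (ψ : IrrCharacter X),
      IsIrrCharacter (inertia Y (φ : Y → ℂ)) σ ∧ resTo hY σ = (φ : Y → ℂ) ∧
      (ψ : X → ℂ) = indFun (inertia Y (φ : Y → ℂ)) σ ∧
      H12.degree (ψ : X → ℂ) =
        (inertia Y (φ : Y → ℂ)).index * H12.degree (φ : Y → ℂ) := by
  classical
  have hY := le_inertia Y (H12.irr_isClassFunction φ)
  obtain ⟨σ, hσ, hres⟩ := exists_inertia_extension Y φ hY
  haveI := Fintype.ofFinite (inertia Y (φ : Y → ℂ))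
  have hne : classInner (resTo hY σ) (φ : Y → ℂ) ≠ 0 := by
    rw [hres, H12.classInner_irr_self]; exact one_ne_zero
  obtain ⟨hirr, -⟩ := clifford_correspondence Y φ.2 rfl hY hσ hne
  refine ⟨hY, σ, ⟨_, hirr⟩, hσ, hres, rfl, ?_⟩
  have h1 := H12.irr_apply_one (⟨_, hirr⟩ : IrrCharacter X)
  simp only [indFun_apply_one] at h1
  have h2 : σ 1 = (φ : Y → ℂ) 1 := congrFun hres 1
  rw [h2, H12.irr_apply_one] at h1
  exact_mod_cast h1.symm

/-- A character over `φ` of the least possible degree. -/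
theorem exists_over_degree [IsCyclic (X ⧸ Y)] [Fintype X] [Fintype Y] (φ : IrrCharacter Y) :
    ∃ ψ : IrrCharacter X, H12.degree (ψ : X → ℂ) =
        (inertia Y (φ : Y → ℂ)).index * H12.degree (φ : Y → ℂ) := by
  obtain ⟨_, _, ψ, _, _, _, h⟩ := exists_over_extension Y φ
  exact ⟨ψ, h⟩

/-- A linear character fixing all nonlinear characters kills the inertia subgroups. -/
theorem kills_inertia [IsCyclic (X ⧸ Y)] [Fintype X] [Fintype Y] (φ : IrrCharacter Y)
    (hφ : (inertia Y (φ : Y → ℂ)).index * H12.degree (φ : Y → ℂ) ≠ 1) (ν : X →* ℂˣ)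
    (hνY : ∀ y ∈ Y, ν y = 1)
    (hν : ∀ ψ : IrrCharacter X, H12.degree (ψ : X → ℂ) ≠ 1 →
      ∀ x : X, (ν x : ℂ) * (ψ : X → ℂ) x = (ψ : X → ℂ) x) :
    ∀ x ∈ inertia Y (φ : Y → ℂ), ν x = 1 := by
  classical
  obtain ⟨hY, σ, ψ, hσ, hres, hψ, hdeg⟩ := exists_over_extension Y φ
  generalize hT : inertia Y (φ : Y → ℂ) = T at hY σ hσ hres hψ hdeg hφ ⊢
  haveI := Fintype.ofFinite T
  let Y' := Y.subgroupOf T
  haveI := Fintype.ofFinite Y'
  haveI := Fintype.ofFinite (T ⧸ Y')
  let ν₀ : T ⧸ Y' →* ℂˣ := QuotientGroup.lift Y' (ν.comp T.subtype) (fun t ht => by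
    rw [MonoidHom.mem_ker]; exact hνY _ ht)
  let β : IrrCharacter (T ⧸ Y') := H12.linIrr ν₀
  have hσc : IsCharacter T σ := H12.isCharacter_of_isIrrCharacter hσ
  have hresY : IsIrrCharacter Y' (fun n : Y' => σ n) := by
    have h := isIrrCharacter_comp_equiv (Subgroup.subgroupOfEquivOfLe hY) φ.2
    rw [← hres] at h
    exact h
  set σ' := (inflateIrr Y' β : T → ℂ) * σ with hσ'
  have hσ'irr : IsIrrCharacter T σ' := gallagher_isIrr Y' hσc hresY β
  have hσ'res : resTo hY σ' = (φ : Y → ℂ) := by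
    rw [← hres]
    funext y
    show σ' _ = σ _
    rw [hσ', Pi.mul_apply, inflateIrr_apply]
    have : (QuotientGroup.mk ⟨(y : X), hY y.2⟩ : T ⧸ Y') = 1 := (QuotientGroup.eq_one_iff _).2 y.2
    erw [this]
    rw [show (β : T ⧸ Y' → ℂ) 1 = ((ν₀ 1 : ℂˣ) : ℂ) from rfl, map_one, Units.val_one]
    erw [one_mul]
  have hind : indFun T σ' = indFun T σ := by
    have e : σ' = fun t : T => σ t * (fun x : X => (ν x : ℂ)) t := funext fun t => by
      rw [hσ', Pi.mul_apply, inflateIrr_apply, mul_comm]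
      rfl
    rw [e, H12.indFun_mul_res T σ
      (H12.IsCharacter.isClassFunction (H12.isCharacter_monoidHom ν))]
    funext x
    rw [← hψ, Pi.mul_apply, mul_comm]
    exact hν ψ (by rw [hdeg]; exact hφ) x
  have hne : ∀ {τ : T → ℂ}, resTo hY τ = (φ : Y → ℂ) →
      classInner (resTo hY τ) (φ : Y → ℂ) ≠ 0 := fun {τ} h => by
    rw [h, H12.classInner_irr_self]; exact one_ne_zero
  have heq := clifford_correspondence_inj Y φ.2 hT.symm hY hσ'irr hσ (hne hσ'res) (hne hres) hind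
  have hone : (inflateIrr Y' (H12.oneIrr (T ⧸ Y')) : T → ℂ) * σ = σ := by
    funext t
    rw [Pi.mul_apply, inflateIrr_apply, H12.oneIrr_apply, one_mul]
  have hβ : β = H12.oneIrr (T ⧸ Y') :=
    gallagher_injective Y' hσc hresY (heq.trans hone.symm)
  intro x hx
  have h := congrFun (congrArg Subtype.val hβ) (QuotientGroup.mk (⟨x, hx⟩ : T))
  rw [H12.oneIrr_apply] at h
  exact Units.ext h

end H4.NoDiv
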