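import Cfsg.Agent.H12.Orth
import Cfsg.Agent.H12.Linear

/-!
Counting lemmas for fixed-point-free actions.
-/

set_option autoImplicit false
set_option linter.style.haveILetI false
set_option linter.unusedSectionVars false

open Cfsg

namespace H4.NoDiv

universe u v

/-- Orbit sizes divisible by the index of a subgroup containing the stabilisers. -/
theorem index_dvd_card_sub_one {K : Type u} [Group K] {A : Type v} [Group A] [Finite A]
    (φ : K →* MulAut A) (B : Subgroup A) (K₀ : Subgroup K) (hB : ∀ k, ∀ b ∈ B, φ k b ∈ B)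
    (hstab : ∀ b ∈ B, b ≠ 1 → ∀ k, φ k b = b → k ∈ K₀) :
    K₀.index ∣ Nat.card B - 1 := by
  classical
  let Ω := {b : A // b ∈ B ∧ b ≠ 1}
  letI : MulAction K Ω :=
    { smul := fun k b => ⟨φ k b.1, hB k _ b.2.1, fun h1 => b.2.2 ((φ k).map_eq_one_iff.mp h1)⟩
      one_smul := fun b => Subtype.ext (show φ 1 b.1 = b.1 by rw [map_one]; rfl)
      mul_smul := fun k l b => Subtype.ext (show φ (k * l) b.1 = φ k (φ l b.1) by
        rw [map_mul]; rfl) }
  haveI : Finite Ω := inferInstance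
  haveI := Fintype.ofFinite (MulAction.orbitRel.Quotient K Ω)
  have hΩ : Nat.card Ω = Nat.card B - 1 := by
    haveI := Fintype.ofFinite B
    haveI := Fintype.ofFinite Ω
    have e : Ω ≃ {b : B // b ≠ 1} :=
      { toFun := fun b => ⟨⟨b.1, b.2.1⟩, fun h1 => b.2.2 (congrArg Subtype.val h1)⟩
        invFun := fun b => ⟨b.1.1, b.1.2, fun h1 => b.2 (Subtype.ext h1)⟩
        left_inv := fun b => rfl
        right_inv := fun b => rfl }
    rw [Nat.card_congr e, Nat.card_eq_fintype_card, Nat.card_eq_fintype_card,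
      Fintype.card_subtype_compl, Fintype.card_subtype_eq]
  rw [← hΩ, Nat.card_congr (MulAction.selfEquivSigmaOrbits K Ω), Nat.card_sigma]
  refine Finset.dvd_sum fun ω _ => ?_
  have h1 : Nat.card (MulAction.orbit K ω.out) = (MulAction.stabilizer K ω.out).index := by
    rw [MulAction.index_stabilizer, Nat.card_coe_set_eq]
  rw [h1]
  exact Subgroup.index_dvd_of_le fun k hk =>
    hstab _ ω.out.2.1 ω.out.2.2 k (congrArg Subtype.val (MulAction.mem_stabilizer_iff.1 hk))

/-- A permutation of prime power order fixes a point of nonzero weight. -/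
theorem exists_fixed_weight {α : Type u} [Fintype α] {t k : ℕ} [Fact t.Prime]
    (σ : Equiv.Perm α) (hσ : σ ^ t ^ k = 1) (w : α → ℕ) (hw : ∀ a, w (σ a) = w a)
    (hsum : ¬ t ∣ ∑ a, w a) : ∃ a, σ a = a ∧ w a ≠ 0 := by
  classical
  by_contra hcon
  simp only [not_exists, not_and, not_not] at hcon
  apply hsum
  rw [← Finset.sum_fiberwise_of_maps_to (t := Finset.univ.image w)
    (fun a _ => Finset.mem_image_of_mem w (Finset.mem_univ a))]
  refine Finset.dvd_sum fun d _ => ?_
  rw [Finset.sum_congr rfl (fun a ha => (Finset.mem_filter.1 ha).2), Finset.sum_const, smul_eq_mul]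
  by_cases hd : d = 0
  · simp [hd]
  refine Dvd.dvd.mul_right ?_ d
  have hmem : ∀ a, w a = d ↔ w (σ a) = d := fun a => by rw [hw]
  let τ : Equiv.Perm {a // w a = d} := σ.subtypePerm (fun a => (hmem a).symm)
  have hτ : τ ^ t ^ k = 1 := by
    rw [Equiv.Perm.subtypePerm_pow]
    refine Equiv.ext fun a => Subtype.ext ?_
    simp [hσ]
  have h := Equiv.Perm.card_compl_support_modEq (σ := τ) hτ
  have hfix : τ.supportᶜ = ∅ := by
    ext a
    simp only [Finset.mem_compl, Equiv.Perm.mem_support, not_not, Finset.notMem_empty, iff_false]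
    intro ha
    exact hd (a.2 ▸ hcon a (congrArg Subtype.val ha))
  rw [hfix, Finset.card_empty, Fintype.card_subtype] at h
  exact Nat.modEq_zero_iff_dvd.1 h.symm

/-- The final numerical contradiction. -/
theorem false_of_bounds {s n d c F : ℕ} (hs : 1 < s) (hcn : c ∣ s ^ n - 1) (hcd : c ∣ s ^ d - 1)
    (hd : 1 ≤ d) (hdn : d < n) (hF1 : 1 < F) (hF : F * F ≤ s ^ n)
    (hcov : s ^ n - 1 ≤ c * (F - 1)) : False := by
  set g := Nat.gcd n d with hg
  have hcg : c ∣ s ^ g - 1 := by
    rw [hg, ← Nat.pow_sub_one_gcd_pow_sub_one]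
    exact Nat.dvd_gcd hcn hcd
  have hgpos : 0 < g := Nat.gcd_pos_of_pos_left _ (by omega)
  obtain ⟨m, hm⟩ := Nat.gcd_dvd_left n d
  rw [← hg] at hm
  have hgd : g ≤ d := Nat.gcd_le_right _ (by omega)
  have hm2 : 2 ≤ m := by
    by_contra hlt
    interval_cases m <;> omega
  have hsg : 1 < s ^ g := Nat.one_lt_pow hgpos.ne' hs
  have hB : s ^ g * s ^ g ≤ s ^ n := by
    rw [← pow_add]
    exact Nat.pow_le_pow_right (by omega) (by rw [hm]; nlinarith)
  have hc : c ≤ s ^ g - 1 := Nat.le_of_dvd (by omega) hcg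
  have h1 : c * (F - 1) ≤ (s ^ g - 1) * (F - 1) := Nat.mul_le_mul_right _ hc
  have hpos : 1 ≤ s ^ n := Nat.one_le_pow _ _ (by omega)
  obtain ⟨a, ha⟩ : ∃ a, s ^ g = a + 1 := ⟨s ^ g - 1, by omega⟩
  obtain ⟨b, hb⟩ : ∃ b, F = b + 1 := ⟨F - 1, by omega⟩
  obtain ⟨e, he⟩ : ∃ e, s ^ n = e + 1 := ⟨s ^ n - 1, by omega⟩
  have e1 : e ≤ a * b := by
    have := hcov.trans h1
    rwa [he, ha, hb, Nat.add_sub_cancel, Nat.add_sub_cancel, Nat.add_sub_cancel] at this
  have e2 : (a + 1) * (a + 1) ≤ e + 1 := by rw [← ha, ← he]; exact hB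
  have e3 : (b + 1) * (b + 1) ≤ e + 1 := by rw [← hb, ← he]; exact hF
  have e4 := two_mul_le_add_sq a b
  nlinarith

/-- A full class: an element killed by no twist. -/
theorem card_centralizer_of_vanish {X : Type u} [Group X] [Finite X] {a : X}
    (h : ∀ χ : IrrCharacter X, (χ : X → ℂ) 1 ≠ 1 → (χ : X → ℂ) a = 0) :
    Nat.card (Subgroup.centralizer ({a} : Set X)) = (commutator X).index := by
  classical
  haveI := Fintype.ofFinite X
  have h1 := H12.column_orthogonality a a
  rw [if_pos (IsConj.refl a)] at h1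
  have h2 : ∀ χ : IrrCharacter X, (χ : X → ℂ) a * (starRingEnd ℂ) ((χ : X → ℂ) a) =
      if (χ : X → ℂ) 1 = 1 then 1 else 0 := by
    intro χ
    split_ifs with h1
    · obtain ⟨f, hf⟩ := H12.exists_monoidHom_of_apply_one_eq_one (H12.isCharacter_irr χ) h1
      rw [← hf]
      have hp : (f a : ℂ) ^ orderOf a = 1 := by
        rw [← Units.val_pow_eq_pow_val, ← map_pow, pow_orderOf_eq_one, map_one, Units.val_one]
      rw [H12.conj_eq_inv_of_pow_eq_one (orderOf_pos a).ne' hp]
      exact mul_inv_cancel₀ (Units.ne_zero _)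
    · rw [h χ h1, zero_mul]
  rw [Finset.sum_congr rfl (fun χ _ => h2 χ), Finset.sum_boole] at h1
  rw [← H12.card_linear_irr (G := X), Nat.card_eq_fintype_card (α := {χ : IrrCharacter X // _}),
    Fintype.card_subtype]
  exact_mod_cast h1.symm

end H4.NoDiv
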