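import Cfsg.Agent.H4.NoDiv.Setup
import Cfsg.Agent.H4.NoDiv.Gen
import Cfsg.Agent.H2.FPFSubgroup
import Cfsg.Agent.H16.Degree
import Mathlib.GroupTheory.SpecificGroups.Cyclic

/-!
The kernel of the cyclic section is abelian.
-/

set_option autoImplicit false
set_option linter.style.haveILetI false
set_option linter.unusedSectionVars false

open Cfsg H13
open scoped commutatorElement

namespace H4.NoDiv

universe u

variable {G : Type u} [Group G] [Finite G] {N L : Subgroup G} [N.Normal] [L.Normal] {h : G} {f : ℕ}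

theorem finite_linear (K : Subgroup G) : Finite (K →* ℂˣ) :=
  Finite.of_injective _ (H12.linIrr_injective (G := K))

theorem comm_mod (hS : Setup N L h f) {a b : G} (ha : a ∈ N) (hb : b ∈ N) : ⁅a, b⁆ ∈ L := by
  haveI := hS.cyc
  letI := IsCyclic.commGroup (α := N ⧸ L.subgroupOf N)
  have h1 : (QuotientGroup.mk' (L.subgroupOf N)) ⁅(⟨a, ha⟩ : N), (⟨b, hb⟩ : N)⁆ = 1 := by
    rw [map_commutatorElement]
    exact commutatorElement_eq_one_iff_mul_comm.2 (mul_comm _ _)
  have h2 := (QuotientGroup.eq_one_iff _).1 h1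
  rw [Subgroup.mem_subgroupOf] at h2
  exact h2

/-- Elements of `N` commuting with `h` modulo `L` are central modulo `L`. -/
theorem central_mod (hS : Setup N L h f) {y : G} (hy : y ∈ N) (hhy : ⁅h, y⁆ ∈ L) (g : G) :
    ⁅g, y⁆ ∈ L := by
  let π := QuotientGroup.mk' L
  have hmem : ∀ a b : G, ⁅a, b⁆ ∈ L → Commute (π a) (π b) := fun a b hab => by
    rw [← QuotientGroup.eq_one_iff, ← QuotientGroup.mk'_apply, map_commutatorElement] at hab
    exact commutatorElement_eq_one_iff_commute.1 hab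
  obtain ⟨i, hi⟩ := hS.gen g
  have h1 : Commute (π g) (π y) := by
    have e : g = h ^ i * ((h ^ i)⁻¹ * g) := by group
    rw [e, map_mul, map_pow]
    exact ((hmem h y hhy).pow_left i).mul_left (hmem _ _ (comm_mod hS hi hy))
  rw [← QuotientGroup.eq_one_iff, ← QuotientGroup.mk'_apply, map_commutatorElement]
  exact commutatorElement_eq_one_iff_commute.2 h1

theorem act_of_mem (θ : L →* ℂˣ) {l : G} (hl : l ∈ L) : H21.dualAct L l θ = θ := by
  refine MonoidHom.ext fun a => ?_
  rw [H21.dualAct_apply, show (⟨l⁻¹ * a * l, _⟩ : L) = (⟨l, hl⟩ : L)⁻¹ * a * ⟨l, hl⟩ from rfl,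
    map_mul, map_mul, map_inv, mul_comm, mul_inv_cancel_left]

theorem act_congr (θ : L →* ℂˣ) {a b : G} (hab : a⁻¹ * b ∈ L) :
    H21.dualAct L b θ = H21.dualAct L a θ := by
  rw [show b = a * (a⁻¹ * b) by group, map_mul, MulAut.mul_apply, act_of_mem θ hab]

theorem act_comm (θ : L →* ℂˣ) {a b : G} (hab : ⁅a, b⁆ ∈ L) :
    H21.dualAct L a (H21.dualAct L b θ) = H21.dualAct L b (H21.dualAct L a θ) := by
  rw [← MulAut.mul_apply, ← MulAut.mul_apply, ← map_mul, ← map_mul]
  refine act_congr θ ?_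
  have h1 := Subgroup.Normal.conj_mem (inferInstance : L.Normal) _ hab (b * a)⁻¹
  have e : (b * a)⁻¹ * (a * b) = (b * a)⁻¹ * ⁅a, b⁆ * ((b * a)⁻¹)⁻¹ := by
    simp [commutatorElement_def, mul_assoc]
  rw [e]
  exact h1

theorem act_pow_fix (θ : L →* ℂˣ) {a : G} (ha : H21.dualAct L a θ = θ) (k : ℕ) :
    H21.dualAct L (a ^ k) θ = θ := by
  induction k with
  | zero => rw [pow_zero, map_one]; rfl
  | succ k ih => rw [pow_succ, map_mul, MulAut.mul_apply, ha, ih]

variable [Fintype L]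

theorem twist_mulHom (g : G) (lam : L →* ℂˣ) (φ : IrrCharacter L) :
    twist L g (H12.InvConst.mulHom lam φ : L → ℂ) =
      fun a => ((H21.dualAct L g⁻¹ lam) a : ℂ) * twist L g (φ : L → ℂ) a := by
  funext a
  rw [twist_apply, H12.InvConst.mulHom_apply, twist_apply, H21.dualAct_apply]
  congr 3
  exact Subtype.ext (by simp)

theorem act_step (θ : L →* ℂˣ) (a b : G) :
    H21.dualAct L (a * b) θ * θ⁻¹ =
      H21.dualAct L a (H21.dualAct L b θ * θ⁻¹) * (H21.dualAct L a θ * θ⁻¹) := by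
  refine MonoidHom.ext fun x => ?_
  simp only [map_mul, MulAut.mul_apply, MonoidHom.mul_apply, H21.dualAct_apply,
    MonoidHom.inv_apply, mul_assoc, inv_mul_cancel_left]

/-- The linear characters fixing `φ`. -/
def fixChars (φ : IrrCharacter L) : Subgroup (L →* ℂˣ) where
  carrier := {ν | ∀ a, (ν a : ℂ) * (φ : L → ℂ) a = (φ : L → ℂ) a}
  one_mem' := fun a => by simp
  mul_mem' := fun {μ ν} hμ hν a => by
    rw [MonoidHom.mul_apply, Units.val_mul, mul_assoc, hν, hμ]
  inv_mem' := fun {ν} hν a => by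
    rw [MonoidHom.inv_apply, Units.val_inv_eq_inv_val, inv_mul_eq_iff_eq_mul₀ (Units.ne_zero _), hν]

theorem mem_fixChars {φ : IrrCharacter L} {ν : L →* ℂˣ} :
    ν ∈ fixChars φ ↔ ∀ a, (ν a : ℂ) * (φ : L → ℂ) a = (φ : L → ℂ) a := Iff.rfl

theorem fixChars_mulHom (φ : IrrCharacter L) (lam : L →* ℂˣ) :
    fixChars (H12.InvConst.mulHom lam φ) = fixChars φ := by
  ext ν
  simp only [mem_fixChars, H12.InvConst.mulHom_apply]
  refine forall_congr' fun a => ?_
  rw [mul_left_comm, mul_right_inj' (Units.ne_zero _)]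

theorem fixChars_invariant {φ : IrrCharacter L} {u : G} (hu : u ∈ inertia L (φ : L → ℂ))
    {ν : L →* ℂˣ} (hν : ν ∈ fixChars φ) : H21.dualAct L u ν ∈ fixChars φ := by
  intro a
  have hu' := congrFun ((mem_inertia L).1 ((inertia L (φ : L → ℂ)).inv_mem hu)) a
  rw [twist_apply] at hu'
  rw [← hu', H21.dualAct_apply]
  have h1 := hν ⟨u⁻¹ * a * u, by simpa using Subgroup.Normal.conj_mem inferInstance _ a.2 u⁻¹⟩
  refine Eq.trans ?_ (h1.trans ?_)
  · congr 1
    exact congrArg (φ : L → ℂ) (Subtype.ext (by simp))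
  · exact congrArg (φ : L → ℂ) (Subtype.ext (by simp))

theorem mulHom_degree (lam : L →* ℂˣ) (φ : IrrCharacter L) :
    H12.degree (H12.InvConst.mulHom lam φ : L → ℂ) = H12.degree (φ : L → ℂ) := by
  unfold H12.degree
  rw [H12.InvConst.mulHom_apply, map_one, Units.val_one, one_mul]

theorem mod_pow_mem (hS : Setup N L h f) {z : G} (hz : z ∈ N) : z ^ L.relIndex N ∈ L := by
  have := Subgroup.pow_index_mem (L.subgroupOf N) (⟨z, hz⟩ : N)
  rwa [Subgroup.mem_subgroupOf, Subgroup.coe_pow] at this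

/-- All nonlinear characters are invariant under twisting by the module. -/
theorem twist_fixed (hS : Setup N L h f) {s : ℕ} (hs : s.Prime) (E : Subgroup (L →* ℂˣ))
    (hEs : ∀ μ ∈ E, μ ^ s = 1) (hEinv : ∀ u ∈ N, ∀ μ ∈ E, H21.dualAct L u μ ∈ E)
    (hEfree : ∀ μ ∈ E, μ ≠ 1 → ∀ u ∈ N, H21.dualAct L u μ = μ → u ∈ L)
    (hsc : ¬ s ∣ L.relIndex N) (φ : IrrCharacter L) (hφ : H12.degree (φ : L → ℂ) ≠ 1) :
    ∀ μ ∈ E, μ ∈ fixChars φ := by
  classical
  haveI := finite_linear L
  haveI := hS.cyc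
  set Q := N ⧸ L.subgroupOf N with hQ
  set c := L.relIndex N with hc
  have hcard : Nat.card Q = c := rfl
  set S := E ⊓ fixChars φ with hSdef
  -- elements of prime order modulo `L`
  have helts : ∀ t : ℕ, t ∈ c.primeFactors → ∃ z : N, orderOf (QuotientGroup.mk z : Q) = t := by
    intro t ht
    haveI := Fact.mk (Nat.prime_of_mem_primeFactors ht)
    obtain ⟨q, hq⟩ := exists_prime_orderOf_dvd_card' (G := Q) t
      (hcard.symm ▸ Nat.dvd_of_mem_primeFactors ht)
    obtain ⟨z, rfl⟩ := QuotientGroup.mk_surjective q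
    exact ⟨z, hq⟩
  choose zt hzt using helts
  -- some element fixes each twist
  have hcover : ∀ μ ∈ E, ∃ t : ℕ, ∃ ht : t ∈ c.primeFactors,
      (zt t ht : G) ∈ inertia L (H12.InvConst.mulHom μ φ : L → ℂ) := by
    intro μ _
    set φ' := H12.InvConst.mulHom μ φ
    obtain ⟨z, hz, hzL, hzφ⟩ := exists_inertia hS φ' (by rw [mulHom_degree]; exact hφ)
    set o := orderOf (QuotientGroup.mk (⟨z, hz⟩ : N) : Q) with ho
    have ho1 : o ≠ 1 := fun h1 => hzL (by
      have h2 := (QuotientGroup.eq_one_iff _).1 (orderOf_eq_one_iff.1 h1)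
      exact h2)
    obtain ⟨t, htp, hto⟩ := Nat.exists_prime_and_dvd ho1
    have ht : t ∈ c.primeFactors := Nat.mem_primeFactors.2
      ⟨htp, hto.trans (hcard ▸ orderOf_dvd_natCard _), Setup.relIndex_pos.ne'⟩
    refine ⟨t, ht, ?_⟩
    obtain ⟨x, hx⟩ : ∃ x : N, x = (⟨z, hz⟩ : N) ^ (o / t) := ⟨_, rfl⟩
    have hxo : orderOf (QuotientGroup.mk x : Q) = t := by
      rw [hx, QuotientGroup.mk_pow, orderOf_pow_of_dvd (Nat.div_pos (Nat.le_of_dvd (orderOf_pos _) hto)
        htp.pos).ne' (Nat.div_dvd_of_dvd hto), ← ho, Nat.div_div_self hto (orderOf_pos _).ne']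
    have hxφ : (x : G) ∈ inertia L (φ' : L → ℂ) := by
      rw [hx, Subgroup.coe_pow]; exact pow_mem hzφ _
    -- the subgroup of order `t` is unique
    have hmem : (QuotientGroup.mk (zt t ht) : Q) ∈ Subgroup.zpowers (QuotientGroup.mk x : Q) := by
      haveI := Fintype.ofFinite Q
      by_contra hnot
      have h2 := IsCyclic.card_pow_eq_one_le (α := Q) htp.pos
      have hsub : insert (QuotientGroup.mk (zt t ht) : Q)
          ((Subgroup.zpowers (QuotientGroup.mk x : Q) : Set Q).toFinset) ⊆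
          ({a : Q | a ^ t = 1} : Finset Q) := by
        intro a ha
        simp only [Finset.mem_insert, Set.mem_toFinset, SetLike.mem_coe] at ha
        simp only [Finset.mem_filter, Finset.mem_univ, true_and]
        rcases ha with rfl | ha
        · exact orderOf_dvd_iff_pow_eq_one.1 (hzt t ht).dvd
        · obtain ⟨i, rfl⟩ := Subgroup.mem_zpowers_iff.1 ha
          rw [← zpow_natCast, zpow_comm, zpow_natCast, ← hxo, pow_orderOf_eq_one, one_zpow]
      have h3 := (Finset.card_le_card hsub).trans h2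
      rw [Finset.card_insert_of_notMem (by simpa using hnot), Set.toFinset_card] at h3
      have h4 : Fintype.card (Subgroup.zpowers (QuotientGroup.mk x : Q) : Set Q) = t := by
        rw [← Nat.card_eq_fintype_card]
        exact (Nat.card_zpowers _).trans hxo
      omega
    obtain ⟨i, hi⟩ := Subgroup.mem_zpowers_iff.1 hmem
    rw [← QuotientGroup.mk_zpow, QuotientGroup.eq, Subgroup.mem_subgroupOf] at hi
    have h5 : (x : G) ^ i * ((x ^ i)⁻¹ * zt t ht : N) ∈ inertia L (φ' : L → ℂ) :=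
      mul_mem (zpow_mem hxφ i) (le_inertia L (H12.irr_isClassFunction φ') hi)
    simpa using h5
  -- each element covers at most one coset
  have hcoset : ∀ t : ℕ, ∀ ht : t ∈ c.primeFactors, ∀ μ ∈ E, ∀ μ' ∈ E,
      (zt t ht : G) ∈ inertia L (H12.InvConst.mulHom μ φ : L → ℂ) →
      (zt t ht : G) ∈ inertia L (H12.InvConst.mulHom μ' φ : L → ℂ) → μ⁻¹ * μ' ∈ S := by
    intro t ht μ hμ μ' hμ' h1 h2
    have htp := Nat.prime_of_mem_primeFactors ht
    set φ' := H12.InvConst.mulHom μ φ with hφ'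
    set u : G := (zt t ht : G)⁻¹ with hu
    have huN : u ∈ N := N.inv_mem (zt t ht).2
    have huφ : u ∈ inertia L (φ' : L → ℂ) := (inertia L _).inv_mem h1
    obtain ⟨ν, hν⟩ : ∃ ν, ν = μ⁻¹ * μ' := ⟨_, rfl⟩
    rw [← hν]
    have hνE : ν ∈ E := hν ▸ E.mul_mem (E.inv_mem hμ) hμ'
    have hS' : fixChars φ' = fixChars φ := fixChars_mulHom φ μ
    have hd : H21.dualAct L u ν * ν⁻¹ ∈ E ⊓ fixChars φ' := by
      refine ⟨E.mul_mem (hEinv u huN ν hνE) (E.inv_mem hνE), fun a => ?_⟩
      have e : (H12.InvConst.mulHom μ' φ : L → ℂ) =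
          (H12.InvConst.mulHom ν φ' : L → ℂ) := funext fun a => by
        rw [H12.InvConst.mulHom_apply, H12.InvConst.mulHom_apply, hφ', H12.InvConst.mulHom_apply,
          ← mul_assoc, ← Units.val_mul, ← MonoidHom.mul_apply, hν, mul_comm μ⁻¹, mul_assoc,
          inv_mul_cancel, mul_one]
      rw [e, mem_inertia, twist_mulHom, (mem_inertia L).1 h1] at h2
      have h3 := congrFun h2 a
      rw [H12.InvConst.mulHom_apply ν φ' a] at h3
      rw [MonoidHom.mul_apply, Units.val_mul, MonoidHom.inv_apply, Units.val_inv_eq_inv_val, mul_comm _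
        ((ν a : ℂ)⁻¹), mul_assoc, hu, h3, inv_mul_cancel_left₀ (Units.ne_zero _)]
    have hpow : ∀ k : ℕ, H21.dualAct L (u ^ k) ν * ν⁻¹ ∈ E ⊓ fixChars φ' := by
      intro k
      induction k with
      | zero => rw [pow_zero, map_one, MulAut.one_apply]; exact (mul_inv_cancel ν).symm ▸ one_mem _
      | succ k ih =>
        have hk : H21.dualAct L (u ^ k) (H21.dualAct L u ν * ν⁻¹) ∈ E ⊓ fixChars φ' :=
          ⟨hEinv _ (N.pow_mem huN k) _ hd.1, fixChars_invariant (pow_mem huφ k) hd.2⟩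
        rw [pow_succ, act_step]
        exact mul_mem hk ih
    set P := ∏ k ∈ Finset.range t, H21.dualAct L (u ^ k) ν with hP
    have hPE : P ∈ E := Subgroup.prod_mem _ fun k _ => hEinv _ (N.pow_mem huN k) _ hνE
    have hut : u ^ t ∈ L := by
      have h4 := pow_orderOf_eq_one (QuotientGroup.mk (zt t ht) : Q)
      rw [hzt t ht, ← QuotientGroup.mk_pow, QuotientGroup.eq_one_iff, Subgroup.mem_subgroupOf,
        Subgroup.coe_pow] at h4
      rw [hu, inv_pow]
      exact L.inv_mem h4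
    have hPfix : H21.dualAct L u P = P := by
      rw [hP, map_prod]
      have h6 := Finset.prod_range_succ' (fun k => H21.dualAct L (u ^ k) ν) t
      rw [Finset.prod_range_succ, act_of_mem ν hut, pow_zero, map_one, MulAut.one_apply] at h6
      rw [mul_right_cancel h6]
      refine Finset.prod_congr rfl fun k _ => ?_
      rw [← MulAut.mul_apply, ← map_mul, ← pow_succ']
    have hP1 : P = 1 := by
      by_contra hne
      have h7 : u ∈ L := hEfree P hPE hne u huN hPfix
      have h8 : (QuotientGroup.mk (zt t ht) : Q) = 1 := (QuotientGroup.eq_one_iff _).2 (by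
        rw [Subgroup.mem_subgroupOf, ← inv_inv ((zt t ht : N) : G), ← hu]
        exact L.inv_mem h7)
      rw [← orderOf_eq_one_iff, hzt] at h8
      exact htp.ne_one h8
    have h9 : ν⁻¹ ^ t ∈ E ⊓ fixChars φ' := by
      have h10 : ∏ k ∈ Finset.range t, (H21.dualAct L (u ^ k) ν * ν⁻¹) ∈ E ⊓ fixChars φ' :=
        Subgroup.prod_mem _ fun k _ => hpow k
      rw [Finset.prod_mul_distrib, ← hP, hP1, Finset.prod_const, Finset.card_range] at h10
      exact (one_mul (ν⁻¹ ^ t)) ▸ h10
    have hts : Nat.Coprime t s := (Nat.coprime_primes htp hs).2 fun e =>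
      hsc (e ▸ Nat.dvd_of_mem_primeFactors ht)
    obtain ⟨j, hj⟩ := exists_pow_eq_self_of_coprime (x := ν⁻¹) (n := t)
      (hts.coprime_dvd_right (orderOf_dvd_of_pow_eq_one (hEs _ (E.inv_mem hνE))))
    have h11 := pow_mem h9 j
    rw [hj, hS'] at h11
    exact (inv_inv ν) ▸ S.inv_mem h11
  -- count
  by_contra hcon
  have hX : S.relIndex E ≠ 1 := fun h1 => hcon fun μ hμ => ((Subgroup.relIndex_eq_one.1 h1) hμ).2
  let P' := {t ∈ c.primeFactors.attach | ∃ μ ∈ E,
    (zt t.1 t.2 : G) ∈ inertia L (H12.InvConst.mulHom μ φ : L → ℂ)}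
  have hrep : ∀ t : P', ∃ μ : E, (zt t.1.1 t.1.2 : G) ∈
      inertia L (H12.InvConst.mulHom (μ : L →* ℂˣ) φ : L → ℂ) := fun t => by
    obtain ⟨μ, hμ, hm⟩ := (Finset.mem_filter.1 t.2).2
    exact ⟨⟨μ, hμ⟩, hm⟩
  choose rep hrep using hrep
  have hsurj : Function.Surjective
      (fun t : P' => (QuotientGroup.mk (rep t) : E ⧸ S.subgroupOf E)) := by
    intro q
    obtain ⟨μ, rfl⟩ := QuotientGroup.mk_surjective q
    obtain ⟨t, ht, hm⟩ := hcover μ μ.2
    let t' : P' := ⟨⟨t, ht⟩, Finset.mem_filter.2 ⟨Finset.mem_attach _ _, μ, μ.2, hm⟩⟩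
    refine ⟨t', QuotientGroup.eq.2 ?_⟩
    rw [Subgroup.mem_subgroupOf]
    exact hcoset t ht _ (rep t').2 _ μ.2 (hrep t') hm
  have hle : S.relIndex E ≤ P'.card := by
    have := Nat.card_le_card_of_surjective _ hsurj
    rw [Nat.card_eq_finsetCard] at this
    exact this
  have hdiv : ∀ t : P', t.1.1 ∣ S.relIndex E - 1 := by
    intro t
    have ht := t.1.2
    have htp := Nat.prime_of_mem_primeFactors ht
    obtain ⟨μ, hμ, hm⟩ := (Finset.mem_filter.1 t.2).2
    set z : G := (zt t.1.1 ht : G) with hz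
    have hzN : z ∈ N := (zt t.1.1 ht).2
    let K := Subgroup.zpowers z
    have hKN : K ≤ N := Subgroup.zpowers_le.2 hzN
    have hK : (L.subgroupOf K).index = t.1.1 := by
      show L.relIndex K = _
      conv_lhs => rw [← QuotientGroup.ker_mk' L]
      rw [Subgroup.relIndex_ker, MonoidHom.map_zpowers, Nat.card_zpowers]
      rw [← hzt t.1.1 ht, orderOf_eq_orderOf_iff]
      intro n
      rw [← map_pow, QuotientGroup.mk'_apply, QuotientGroup.eq_one_iff, ← QuotientGroup.mk_pow,
        QuotientGroup.eq_one_iff, Subgroup.mem_subgroupOf, Subgroup.coe_pow]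
    have key : ∀ B : Subgroup (L →* ℂˣ), B ≤ E → (∀ u ∈ K, ∀ b ∈ B, H21.dualAct L u b ∈ B) →
        t.1.1 ∣ Nat.card B - 1 := fun B hBE hBK => hK ▸
      index_dvd_card_sub_one ((H21.dualAct L).comp K.subtype) B (L.subgroupOf K)
        (fun k b hb => hBK k k.2 b hb)
        (fun b hb hb1 k hk => Subgroup.mem_subgroupOf.2 (hEfree b (hBE hb) hb1 k (hKN k.2) hk))
    have h1 := key E le_rfl fun u hu b hb => hEinv u (hKN hu) b hb
    have h2 := key S inf_le_left fun u hu b hb => by
      refine ⟨hEinv u (hKN hu) b hb.1, ?_⟩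
      rw [← fixChars_mulHom φ μ]
      refine fixChars_invariant ?_ (by rw [fixChars_mulHom φ μ]; exact hb.2)
      obtain ⟨i, rfl⟩ := Subgroup.mem_zpowers_iff.1 hu
      exact zpow_mem hm i
    have h3 : Nat.card S * S.relIndex E = Nat.card E := by
      rw [← Subgroup.card_mul_index (S.subgroupOf E)]
      congr 1
      exact Nat.card_congr (Subgroup.subgroupOfEquivOfLe (inf_le_left : S ≤ E)).toEquiv.symm
    have hpS : 0 < Nat.card S := Nat.card_pos
    have hpX : 0 < S.relIndex E := Nat.pos_of_ne_zero Subgroup.index_ne_zero_of_finite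
    obtain ⟨a, ha⟩ := h1
    obtain ⟨b, hb⟩ := h2
    rw [← Int.natCast_dvd_natCast, Nat.cast_sub hpX]
    refine ⟨(a : ℤ) - b * S.relIndex E, ?_⟩
    have e1 : (Nat.card E : ℤ) = 1 + t.1.1 * a := by
      have := Nat.card_pos (α := E)
      exact_mod_cast (by omega : Nat.card E = 1 + t.1.1 * a)
    have e2 : (Nat.card S : ℤ) = 1 + t.1.1 * b := by
      exact_mod_cast (by omega : Nat.card S = 1 + t.1.1 * b)
    have e3 : (Nat.card S : ℤ) * S.relIndex E = Nat.card E := by exact_mod_cast h3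
    rw [e1, e2] at e3
    push_cast
    linear_combination e3
  have hne : (P'.image fun t => t.1).Nonempty := by
    have hX0 : 0 < P'.card := lt_of_lt_of_le (Nat.pos_of_ne_zero Subgroup.index_ne_zero_of_finite) hle
    exact (Finset.card_pos.1 hX0).image _
  set tm := (P'.image fun t => t.1).max' hne with htm
  obtain ⟨t, htP, htt⟩ := Finset.mem_image.1 ((P'.image fun t => t.1).max'_mem hne)
  have hbound : P'.card < tm := by
    have hsub : P'.image (fun t => t.1) ⊆ Finset.Icc 2 tm := fun a ha => by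
      refine Finset.mem_Icc.2 ⟨?_, Finset.le_max' _ a ha⟩
      obtain ⟨b, -, rfl⟩ := Finset.mem_image.1 ha
      exact (Nat.prime_of_mem_primeFactors b.2).two_le
    have h1 := Finset.card_le_card hsub
    rw [Finset.card_image_of_injective _ Subtype.val_injective, Nat.card_Icc] at h1
    have h2 : 2 ≤ tm := by
      rw [htm, ← htt]; exact (Nat.prime_of_mem_primeFactors t.2).two_le
    omega
  have h1 := hdiv ⟨t, htP⟩
  simp only at h1
  rw [htt, ← htm] at h1
  have hpX : 0 < S.relIndex E := Nat.pos_of_ne_zero Subgroup.index_ne_zero_of_finite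
  have := Nat.le_of_dvd (by omega) h1
  omega

end H4.NoDiv
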