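import Cfsg.Agent.H4.NoDiv.Full

/-!
The covering of the module by conjugates of the fixed points, and the fixed characters over a
central linear character.
-/

set_option autoImplicit false
set_option linter.style.haveILetI false
set_option linter.unusedSectionVars false

open Cfsg H13
open scoped commutatorElement

namespace H4.NoDiv

universe u

variable {G : Type u} [Group G] [Finite G] {N L : Subgroup G} [N.Normal] [L.Normal] {h : G} {f : ℕ}

/-- The elements of `N` commuting with `h` modulo `L`. -/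
def fixMod (N L : Subgroup G) [L.Normal] (h : G) : Subgroup G :=
  N ⊓ (Subgroup.centralizer ({QuotientGroup.mk' L h} : Set (G ⧸ L))).comap (QuotientGroup.mk' L)

theorem mem_fixMod {n : G} : n ∈ fixMod N L h ↔ n ∈ N ∧ ⁅h, n⁆ ∈ L := by
  unfold fixMod
  rw [Subgroup.mem_inf, Subgroup.mem_comap, Subgroup.mem_centralizer_singleton_iff]
  refine and_congr_right fun _ => ?_
  rw [← QuotientGroup.eq_one_iff (⁅h, n⁆), ← QuotientGroup.mk'_apply, map_commutatorElement,
    commutatorElement_eq_one_iff_mul_comm]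
  exact eq_comm

theorem le_fixMod (hS : Setup N L h f) : L ≤ fixMod N L h := fun l hl =>
  mem_fixMod.2 ⟨hS.le hl, by
    rw [commutatorElement_def]
    exact L.mul_mem (Subgroup.Normal.conj_mem inferInstance l hl h) (L.inv_mem hl)⟩

theorem act_of_eq (θ : L →* ℂˣ) {a b : G} (hab : QuotientGroup.mk' L a = QuotientGroup.mk' L b) :
    H21.dualAct L a θ = H21.dualAct L b θ :=
  (act_congr θ (QuotientGroup.eq.1 hab)).symm

/-- Every coset of `N` in `hN` is conjugate to one of the centraliser of `h`. -/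
theorem exists_decomp (hS : Setup N L h f) {w : G} (hw : w ∈ N) :
    ∃ u ∈ N, ∃ n₀ ∈ fixMod N L h,
      QuotientGroup.mk' L (h * w) = QuotientGroup.mk' L (u * h * u⁻¹ * n₀) := by
  classical
  haveI := Fintype.ofFinite L
  set π := QuotientGroup.mk' L with hπ
  set Nb := N.map π with hNb
  have hcomm : ∀ a b : Nb, a * b = b * a := by
    rintro ⟨_, a, ha, rfl⟩ ⟨_, b, hb, rfl⟩
    apply Subtype.ext
    show π a * π b = π b * π a
    rw [← commutatorElement_eq_one_iff_mul_comm, ← map_commutatorElement]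
    exact (QuotientGroup.eq_one_iff _).2 (comm_mod hS ha hb)
  haveI : Nb.Normal := Subgroup.Normal.map inferInstance _ (QuotientGroup.mk'_surjective L)
  let δ : Nb →* Nb := MonoidHom.mk' (fun x => MulAut.conjNormal (π h)⁻¹ x * x⁻¹) (fun a b => by
    show MulAut.conjNormal (π h)⁻¹ (a * b) * (a * b)⁻¹ = _
    rw [map_mul, mul_inv_rev]
    calc MulAut.conjNormal (π h)⁻¹ a * MulAut.conjNormal (π h)⁻¹ b * (b⁻¹ * a⁻¹)
        = MulAut.conjNormal (π h)⁻¹ a * ((MulAut.conjNormal (π h)⁻¹ b * b⁻¹) * a⁻¹) := by group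
      _ = MulAut.conjNormal (π h)⁻¹ a * (a⁻¹ * (MulAut.conjNormal (π h)⁻¹ b * b⁻¹)) := by
          rw [hcomm _ a⁻¹]
      _ = _ := by group)
  have hδ : ∀ x : Nb, ((δ x : Nb) : G ⧸ L) = (π h)⁻¹ * x * π h * (x : G ⧸ L)⁻¹ := fun x => by
    show ((MulAut.conjNormal (π h)⁻¹ x * x⁻¹ : Nb) : G ⧸ L) = _
    rw [Subgroup.coe_mul, Subgroup.coe_inv, MulAut.conjNormal_apply, inv_inv]
  -- the image avoids the kernel
  have hdisj : ∀ x : Nb, x ∈ δ.range → x ∈ δ.ker → x = 1 := by
    rintro x ⟨v, rfl⟩ hx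
    have hx' : Commute ((δ v : Nb) : G ⧸ L) (π h) := by
      have h1 := congrArg Subtype.val (MonoidHom.mem_ker.1 hx)
      rw [hδ, Subgroup.coe_one] at h1
      show _ * π h = π h * _
      calc ((δ v : Nb) : G ⧸ L) * π h
          = π h * ((π h)⁻¹ * (δ v : Nb) * π h * ((δ v : Nb) : G ⧸ L)⁻¹) * (δ v : Nb) := by group
        _ = π h * (δ v : Nb) := by rw [h1, mul_one]
    set d : G ⧸ L := ((δ v : Nb) : G ⧸ L) with hd
    have hrec : ∀ i : ℕ, ((π h) ^ i)⁻¹ * v * (π h) ^ i = d ^ i * v := by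
      intro i
      induction i with
      | zero => simp
      | succ i ih =>
        calc ((π h) ^ (i + 1))⁻¹ * (v : G ⧸ L) * (π h) ^ (i + 1)
            = (π h)⁻¹ * (((π h) ^ i)⁻¹ * v * (π h) ^ i) * π h := by rw [pow_succ]; group
          _ = (π h)⁻¹ * d ^ i * π h * ((π h)⁻¹ * v * π h) := by rw [ih]; group
          _ = d ^ i * (d * v) := by
            rw [show (π h)⁻¹ * (v : G ⧸ L) * π h = d * v by rw [hd, hδ]; group,
              mul_assoc (π h)⁻¹, (hx'.pow_left i).eq, inv_mul_cancel_left]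
          _ = d ^ (i + 1) * v := by rw [pow_succ, mul_assoc]
    have h1 := hrec f
    rw [← map_pow, show π (h ^ f) = 1 from (QuotientGroup.eq_one_iff _).2 hS.hpow, inv_one,
      one_mul, mul_one] at h1
    have h2 : d ^ f = 1 := mul_eq_right.1 h1.symm
    have h3 : d ^ L.relIndex N = 1 := by
      obtain ⟨z, hz, hzd⟩ := (δ v).2
      rw [hd, ← hzd, ← map_pow]
      exact (QuotientGroup.eq_one_iff _).2 (mod_pow_mem hS hz)
    refine Subtype.ext (orderOf_eq_one_iff.1 (Nat.eq_one_of_dvd_coprimes hS.cop ?_ ?_))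
    · exact orderOf_dvd_of_pow_eq_one h2
    · exact orderOf_dvd_of_pow_eq_one h3
  have hsurj : Function.Surjective (fun p : δ.range × δ.ker => (p.1 : Nb) * (p.2 : Nb)) := by
    haveI := Fintype.ofFinite Nb
    haveI := Fintype.ofFinite δ.range
    haveI := Fintype.ofFinite δ.ker
    refine ((Nat.bijective_iff_injective_and_card _).2 ⟨?_, ?_⟩).2
    · rintro ⟨a, b⟩ ⟨a', b'⟩ hab
      have hab' : (a : Nb) * b = a' * b' := hab
      have e : (a' : Nb)⁻¹ * a = (b' : Nb) * (b : Nb)⁻¹ :=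
        calc (a' : Nb)⁻¹ * a = (a' : Nb)⁻¹ * ((a : Nb) * b) * (b : Nb)⁻¹ := by group
          _ = (a' : Nb)⁻¹ * ((a' : Nb) * b') * (b : Nb)⁻¹ := by rw [hab']
          _ = _ := by group
      have h1 := hdisj _ (δ.range.mul_mem (δ.range.inv_mem a'.2) a.2)
        (e ▸ δ.ker.mul_mem b'.2 (δ.ker.inv_mem b.2))
      have h2 : (a : Nb) = a' := (inv_mul_eq_one.1 h1).symm
      refine Prod.ext (Subtype.ext h2) (Subtype.ext ?_)
      rw [h2] at hab'
      exact mul_left_cancel hab'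
    · rw [Nat.card_prod, ← Subgroup.index_ker, mul_comm, Subgroup.card_mul_index]
  obtain ⟨⟨⟨_, v, rfl⟩, n₁⟩, hv⟩ := hsurj ⟨π w, Subgroup.mem_map_of_mem π hw⟩
  obtain ⟨⟨_, u, hu, rfl⟩, rfl⟩ : ∃ v' : Nb, v' = v := ⟨v, rfl⟩
  obtain ⟨n₀, hn₀, hn₀e⟩ := (n₁ : Nb).2
  have hk : (π h)⁻¹ * π n₀ * π h * (π n₀)⁻¹ = 1 := by
    have h1 := congrArg Subtype.val (MonoidHom.mem_ker.1 n₁.2)
    rwa [hδ, Subgroup.coe_one, ← hn₀e] at h1
  refine ⟨u, hu, n₀, mem_fixMod.2 ⟨hn₀, ?_⟩, ?_⟩
  · rw [← QuotientGroup.eq_one_iff, ← QuotientGroup.mk'_apply, map_commutatorElement,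
      commutatorElement_eq_one_iff_mul_comm]
    calc π h * π n₀ = π h * ((π h)⁻¹ * π n₀ * π h * (π n₀)⁻¹) * π n₀ := by rw [hk, mul_one]
      _ = π n₀ * π h := by group
  · have h1 := congrArg Subtype.val hv
    simp only [Subgroup.coe_mul, hδ] at h1
    rw [← hn₀e] at h1
    simp only [map_mul, map_inv]
    rw [← show _ = π w from h1]
    group

/-- Conjugates of the fixed points of `h` cover the module. -/
theorem cover_bound (hS : Setup N L h f) (E : Subgroup (L →* ℂˣ))
    (hEinv : ∀ u ∈ N, ∀ μ ∈ E, H21.dualAct L u μ ∈ E)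
    (hEfree : ∀ μ ∈ E, μ ≠ 1 → ∀ u ∈ N, H21.dualAct L u μ = μ → u ∈ L) (hE : E ≠ ⊥)
    {y : G} (hy : y ∈ N) (hyL : y ∉ L) :
    ∃ F : Subgroup (L →* ℂˣ), F ≤ E ∧ F ≠ ⊥ ∧ Nat.card F * Nat.card F ≤ Nat.card E ∧
      Nat.card E - 1 ≤ (fixMod N L h).relIndex N * (Nat.card F - 1) := by
  classical
  haveI := finite_linear L
  haveI := Fintype.ofFinite L
  set π := QuotientGroup.mk' L with hπ
  let F : Subgroup (L →* ℂˣ) :=
    { carrier := {μ | μ ∈ E ∧ H21.dualAct L h μ = μ}
      one_mem' := ⟨one_mem _, map_one _⟩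
      mul_mem' := fun {a b} ha hb => ⟨mul_mem ha.1 hb.1, by rw [map_mul, ha.2, hb.2]⟩
      inv_mem' := fun {a} ha => ⟨inv_mem ha.1, by rw [map_inv, ha.2]⟩ }
  set N₀ := (fixMod N L h).subgroupOf N with hN₀
  have hsur : ∀ μ ∈ E, μ ≠ 1 → ∃ q : N ⧸ N₀, ∃ ν ∈ F, ν ≠ 1 ∧
      μ = H21.dualAct L ((Quotient.out q : N) : G) ν := by
    intro μ hμ hμ1
    obtain ⟨w, hw, hfix⟩ := conj_linear hS μ ⟨y, hy, fun he => hyL (hEfree μ hμ hμ1 y hy he)⟩
    obtain ⟨u, hu, n₀, hn₀, he⟩ := exists_decomp hS hw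
    rw [act_of_eq μ he] at hfix
    obtain ⟨hn₀N, hn₀h⟩ := mem_fixMod.1 hn₀
    have hcm : ∀ a b : G, ⁅a, b⁆ ∈ L → Commute (π a) (π b) := fun a b hab => by
      rw [← QuotientGroup.eq_one_iff, ← QuotientGroup.mk'_apply, map_commutatorElement] at hab
      exact commutatorElement_eq_one_iff_commute.1 hab
    have hc1 : Commute (π (u * h * u⁻¹)) (π n₀) := hcm _ _ (central_mod hS hn₀N hn₀h _)
    have hn₀L : n₀ ∈ L := by
      have h1 : n₀ ^ f ∈ L := by
        refine hEfree μ hμ hμ1 _ (N.pow_mem hn₀N f) ?_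
        refine (act_of_eq μ ?_).trans (act_pow_fix μ hfix f)
        rw [map_pow π (u * h * u⁻¹ * n₀), map_mul π _ n₀, hc1.mul_pow, ← map_pow π (u * h * u⁻¹),
          conj_pow, map_mul, map_mul, show π (h ^ f) = 1 from (QuotientGroup.eq_one_iff _).2 hS.hpow,
          mul_one, map_inv, mul_inv_cancel, one_mul, map_pow]
      rw [← QuotientGroup.eq_one_iff, ← orderOf_eq_one_iff]
      refine Nat.eq_one_of_dvd_coprimes hS.cop (orderOf_dvd_of_pow_eq_one ?_)
        (orderOf_dvd_of_pow_eq_one ?_)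
      · rw [← QuotientGroup.mk_pow]; exact (QuotientGroup.eq_one_iff _).2 h1
      · rw [← QuotientGroup.mk_pow]; exact (QuotientGroup.eq_one_iff _).2 (mod_pow_mem hS hn₀N)
    set q : N ⧸ N₀ := QuotientGroup.mk ⟨u, hu⟩
    set r : N := Quotient.out q with hr
    obtain ⟨n₁, hn₁⟩ := QuotientGroup.mk_out_eq_mul N₀ (⟨u, hu⟩ : N)
    obtain ⟨hn₁N, hn₁h⟩ := mem_fixMod.1 (Subgroup.mem_subgroupOf.1 n₁.2)
    have hrfix : H21.dualAct L ((r : G) * h * (r : G)⁻¹) μ = μ := by
      refine (act_of_eq μ ?_).trans hfix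
      have e : (r : G) = u * ((n₁ : N) : G) := congrArg Subtype.val hn₁
      rw [e, map_mul π _ n₀, show π n₀ = 1 from (QuotientGroup.eq_one_iff _).2 hn₀L, mul_one]
      simp only [map_mul, map_inv, mul_inv_rev]
      rw [mul_assoc (π u) (π ((n₁ : N) : G)), ← (hcm _ _ hn₁h).eq]
      simp only [hπ]
      group
    refine ⟨q, H21.dualAct L (r : G)⁻¹ μ, ⟨hEinv _ (N.inv_mem r.2) _ hμ, ?_⟩, ?_, ?_⟩
    · rw [← MulAut.mul_apply, ← map_mul]
      conv_rhs => rw [← hrfix]
      rw [← MulAut.mul_apply, ← map_mul]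
      congr 2
      group
    · intro h1
      exact hμ1 ((H21.dualAct L (r : G)⁻¹).injective (h1.trans (map_one _).symm))
    · rw [← MulAut.mul_apply, ← map_mul, mul_inv_cancel, map_one, MulAut.one_apply]
  refine ⟨F, fun μ hμ => hμ.1, ?_, ?_, ?_⟩
  · obtain ⟨⟨μ, hμ⟩, hμ1⟩ := E.ne_bot_iff_exists_ne_one.1 hE
    obtain ⟨q, ν, hν, hν1, -⟩ := hsur μ hμ (fun h1 => hμ1 (Subtype.ext h1))
    exact fun hF => hν1 (Subgroup.mem_bot.1 (hF ▸ hν))
  · obtain ⟨u, hu, hu0⟩ := hS.moved
    rw [← Nat.card_prod]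
    refine Nat.card_le_card_of_injective (fun p : F × F =>
      (⟨(p.1 : L →* ℂˣ) * H21.dualAct L u p.2, E.mul_mem p.1.2.1 (hEinv u hu _ p.2.2.1)⟩ : E)) ?_
    rintro ⟨a, b⟩ ⟨a', b'⟩ hab
    have hab' : (a : L →* ℂˣ) * H21.dualAct L u b = a' * H21.dualAct L u b' := congrArg Subtype.val hab
    obtain ⟨x, hx⟩ : ∃ x : L →* ℂˣ, x = (a : L →* ℂˣ) * (a' : L →* ℂˣ)⁻¹ := ⟨_, rfl⟩
    obtain ⟨x', hx'⟩ : ∃ x : L →* ℂˣ, x = (b' : L →* ℂˣ) * (b : L →* ℂˣ)⁻¹ := ⟨_, rfl⟩
    have hxF : x ∈ F := hx ▸ F.mul_mem a.2 (F.inv_mem a'.2)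
    have hx'F : x' ∈ F := hx' ▸ F.mul_mem b'.2 (F.inv_mem b.2)
    have hxx : x = H21.dualAct L u x' := by
      refine MonoidHom.ext fun z => ?_
      have h1 := DFunLike.congr_fun hab' z
      rw [MonoidHom.mul_apply, MonoidHom.mul_apply] at h1
      rw [hx, hx']
      simp only [map_mul, map_inv, MonoidHom.mul_apply, MonoidHom.inv_apply]
      exact mul_inv_eq_mul_inv_iff_mul_eq_mul.2 (h1.trans (mul_comm _ _))
    have hx1 : x = 1 := by
      by_contra hx1
      have hfixu : H21.dualAct L (u * h * u⁻¹) x = x := by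
        rw [hxx, ← MulAut.mul_apply, ← map_mul, inv_mul_cancel_right, map_mul, MulAut.mul_apply,
          hx'F.2]
      have hz : H21.dualAct L (h⁻¹ * (u * h * u⁻¹)) x = x := by
        rw [map_mul, MulAut.mul_apply, hfixu]
        conv_lhs => rw [← hxF.2]
        rw [← MulAut.mul_apply, ← map_mul, inv_mul_cancel, map_one, MulAut.one_apply]
      have hzN : h⁻¹ * (u * h * u⁻¹) ∈ N := by
        rw [show h⁻¹ * (u * h * u⁻¹) = (h⁻¹ * u * h⁻¹⁻¹) * u⁻¹ by group]
        exact N.mul_mem (Subgroup.Normal.conj_mem inferInstance u hu h⁻¹) (N.inv_mem hu)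
      have hzL := hEfree x hxF.1 hx1 _ hzN hz
      apply hu0
      have h2 := Subgroup.Normal.conj_mem (inferInstance : L.Normal) _ (L.inv_mem hzL) h
      rwa [show h * (h⁻¹ * (u * h * u⁻¹))⁻¹ * h⁻¹ = ⁅h, u⁆⁻¹⁻¹ by
        rw [commutatorElement_def]; group, inv_inv] at h2
    have hx'1 : x' = 1 :=
      (H21.dualAct L u).injective ((hxx.symm.trans hx1).trans (map_one _).symm)
    refine Prod.ext (Subtype.ext ?_) (Subtype.ext ?_)
    · exact mul_inv_eq_one.1 (hx.symm.trans hx1)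
    · exact (mul_inv_eq_one.1 (hx'.symm.trans hx'1)).symm
  · let E' := {μ : E // μ ≠ 1}
    let F' := {μ : F // μ ≠ 1}
    have hcard : ∀ B : Subgroup (L →* ℂˣ), Nat.card {μ : B // μ ≠ 1} = Nat.card B - 1 := fun B => by
      haveI := Fintype.ofFinite B
      rw [Nat.card_eq_fintype_card, Nat.card_eq_fintype_card, Fintype.card_subtype_compl,
        Fintype.card_subtype_eq]
    have hF : ∀ p : (N ⧸ N₀) × F',
        H21.dualAct L ((Quotient.out p.1 : N) : G) (p.2.1 : L →* ℂˣ) ∈ E :=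
      fun p => hEinv _ (Quotient.out p.1).2 _ p.2.1.2.1
    have h1 : Nat.card E' ≤ Nat.card ((N ⧸ N₀) × F') := by
      refine Nat.card_le_card_of_surjective (fun p : (N ⧸ N₀) × F' =>
        (⟨⟨_, hF p⟩, fun h1 => p.2.2 (Subtype.ext ((H21.dualAct L _).injective
          ((congrArg Subtype.val h1).trans (map_one _).symm)))⟩ : E')) ?_
      rintro ⟨⟨μ, hμ⟩, hμ1⟩
      obtain ⟨q, ν, hν, hν1, e⟩ := hsur μ hμ (fun h1 => hμ1 (Subtype.ext h1))
      exact ⟨⟨q, ⟨⟨ν, hν⟩, fun h1 => hν1 (congrArg Subtype.val h1)⟩⟩, Subtype.ext (Subtype.ext e.symm)⟩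
    rw [Nat.card_prod, hcard, hcard] at h1
    exact h1

/-- An element fixing a central linear character of prime-power index fixes a character over it. -/
theorem exists_fixed_over [Fintype L] (hS : Setup N L h f) {s k : ℕ} (hs : s.Prime)
    (hsc : ¬ s ∣ L.relIndex N) (hL : Nat.card L = s ^ k)
    (hcen : ∀ g ∈ L, ∀ m ∈ ⁅L, L⁆, g * m = m * g) {z : G} (hz : z ∈ N)
    (ω : commutator L →* ℂˣ) (hω : ω ≠ 1)
    (hzω : ∀ m : commutator L, ∀ hm, ω ⟨⟨z * ((m : L) : G) * z⁻¹,
      Subgroup.Normal.conj_mem inferInstance _ (m : L).2 z⟩, hm⟩ = ω m) :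
    z ∈ fixMod N L h := by
  classical
  haveI := hS.cyc
  set π := QuotientGroup.mk' L with hπ
  by_contra hzn
  -- a power of prime power order outside
  set o := orderOf (π z) with ho
  have hoc : o ∣ L.relIndex N := orderOf_dvd_of_pow_eq_one (by
    rw [← map_pow]; exact (QuotientGroup.eq_one_iff _).2 (mod_pow_mem hS hz))
  haveI : ((fixMod N L h).subgroupOf N).Normal := ⟨fun a ha b => by
    rw [Subgroup.mem_subgroupOf] at ha ⊢
    obtain ⟨haN, hah⟩ := mem_fixMod.1 ha
    have hba := central_mod hS haN hah b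
    have e : ((b * a * b⁻¹ : N) : G) = ⁅(b : G), (a : G)⁆ * a := by
      simp [commutatorElement_def]
    rw [e]
    exact (fixMod N L h).mul_mem (le_fixMod hS hba) ha⟩
  set o₁ := orderOf (QuotientGroup.mk (⟨z, hz⟩ : N) : N ⧸ (fixMod N L h).subgroupOf N) with ho₁
  have ho₁1 : o₁ ≠ 1 := fun h1 => hzn (Subgroup.mem_subgroupOf.1
    ((QuotientGroup.eq_one_iff (⟨z, hz⟩ : N)).1 (orderOf_eq_one_iff.1 h1)))
  obtain ⟨t, ht, hto₁⟩ := Nat.exists_prime_and_dvd ho₁1
  haveI := Fact.mk ht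
  have hto : t ∣ o := by
    refine hto₁.trans (orderOf_dvd_of_pow_eq_one ?_)
    rw [← QuotientGroup.mk_pow, QuotientGroup.eq_one_iff, Subgroup.mem_subgroupOf, Subgroup.coe_pow]
    refine le_fixMod hS ?_
    rw [← QuotientGroup.eq_one_iff, QuotientGroup.mk_pow]
    exact pow_orderOf_eq_one _
  set v := o.factorization t
  set o' := o / t ^ v with ho'
  have hmul : t ^ v * o' = o := Nat.mul_div_cancel' (Nat.ordProj_dvd _ _)
  have hto' : ¬ t ∣ o' := Nat.not_dvd_ordCompl ht (orderOf_pos _).ne'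
  set z' := z ^ o' with hz'
  have hz'N : z' ∈ N := N.pow_mem hz _
  have hz'L : z' ^ t ^ v ∈ L := by
    rw [hz', ← pow_mul, mul_comm, hmul, ← QuotientGroup.eq_one_iff, QuotientGroup.mk_pow]
    exact pow_orderOf_eq_one _
  have hz'n : z' ∉ fixMod N L h := fun hmem => hto' (hto₁.trans (orderOf_dvd_of_pow_eq_one (by
    rw [← QuotientGroup.mk_pow, QuotientGroup.eq_one_iff, Subgroup.mem_subgroupOf, Subgroup.coe_pow]
    exact hmem)))
  -- weights
  haveI : Fintype (commutator L) := Fintype.ofFinite _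
  set θ := H12.linIrr ω with hθ
  have hnat : ∀ χ : IrrCharacter L, ∃ m : ℕ,
      classInner (fun x : commutator L => (χ : L → ℂ) x) (θ : commutator L → ℂ) = m := fun χ =>
    H12.IsCharacter.classInner_nat (H12.IsCharacter.res (H12.isCharacter_irr χ) _)
      (H12.isCharacter_irr θ)
  choose m hm using hnat
  let σ : Equiv.Perm (IrrCharacter L) :=
    { toFun := twistIrr L z'
      invFun := twistIrr L z'⁻¹
      left_inv := fun χ => Subtype.ext (by
        rw [twistIrr_apply, twistIrr_apply, twist_twist, mul_inv_cancel, twist_one])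
      right_inv := fun χ => Subtype.ext (by
        rw [twistIrr_apply, twistIrr_apply, twist_twist, inv_mul_cancel, twist_one]) }
  have hσpow : ∀ (i : ℕ) (χ : IrrCharacter L),
      ((σ ^ i) χ : L → ℂ) = twist L (z' ^ i) (χ : L → ℂ) := by
    intro i
    induction i with
    | zero => intro χ; rw [pow_zero, pow_zero, twist_one]; rfl
    | succ i ih =>
      intro χ
      rw [pow_succ, Equiv.Perm.mul_apply, ih, pow_succ']
      show twist L (z' ^ i) (twistIrr L z' χ : L → ℂ) = _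
      rw [twistIrr_apply, twist_twist]
  have hσ : σ ^ t ^ v = 1 := Equiv.ext fun χ => Subtype.ext (by
    rw [hσpow, (mem_inertia L).1 (le_inertia L (H12.irr_isClassFunction χ) hz'L)]
    rfl)
  have hzω' : ∀ (i : ℕ) (x : commutator L) (hx), ω ⟨⟨z ^ i * ((x : L) : G) * (z ^ i)⁻¹,
      Subgroup.Normal.conj_mem inferInstance _ (x : L).2 _⟩, hx⟩ = ω x := by
    intro i
    induction i with
    | zero => intro x hx; congr 1; exact Subtype.ext (Subtype.ext (by simp))
    | succ i ih =>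
      intro x hx
      have hx1 : (⟨z ^ i * ((x : L) : G) * (z ^ i)⁻¹,
          Subgroup.Normal.conj_mem inferInstance _ (x : L).2 _⟩ : L) ∈ commutator L := by
        have hch : (commutator L).Characteristic := inferInstance
        have := hch.fixed (MulAut.conjNormal (z ^ i) : L ≃* L)
        have h2 : (MulAut.conjNormal (z ^ i) : L ≃* L) (x : L) ∈ commutator L := by
          have hx2 : (x : L) ∈ (commutator L).comap
              (MulAut.conjNormal (z ^ i) : L ≃* L).toMonoidHom := by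
            rw [this]; exact x.2
          exact hx2
        exact h2
      rw [← ih x hx1]
      refine Eq.trans ?_ (hzω ⟨_, hx1⟩ (by
        convert hx using 1
        refine Subtype.ext ?_
        show z * (z ^ i * ((x : L) : G) * (z ^ i)⁻¹) * z⁻¹ = z ^ (i + 1) * ((x : L) : G) * (z ^ (i + 1))⁻¹
        rw [pow_succ']
        group))
      congr 1
      refine Subtype.ext (Subtype.ext ?_)
      show z ^ (i + 1) * ((x : L) : G) * (z ^ (i + 1))⁻¹ = z * (z ^ i * ((x : L) : G) * (z ^ i)⁻¹) * z⁻¹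
      rw [pow_succ']
      group
  have hcj : ∀ x : commutator L, (⟨z' * ((x : L) : G) * z'⁻¹,
      Subgroup.Normal.conj_mem inferInstance _ (x : L).2 _⟩ : L) ∈ commutator L := fun x => by
    have hch : (commutator L).Characteristic := inferInstance
    have hx2 : (x : L) ∈ (commutator L).comap (MulAut.conjNormal z' : L ≃* L).toMonoidHom := by
      rw [hch.fixed]; exact x.2
    exact hx2
  let cj : commutator L ≃ commutator L := Equiv.ofBijective (fun x => ⟨_, hcj x⟩)
    ((Finite.injective_iff_bijective).1 fun a b hab => Subtype.ext (Subtype.ext (by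
      have := congrArg (fun e : commutator L => ((e : L) : G)) hab
      exact mul_left_cancel (mul_right_cancel this))))
  have hw : ∀ χ, m (σ χ) * H12.degree (σ χ : L → ℂ) = m χ * H12.degree (χ : L → ℂ) := by
    intro χ
    have hd : H12.degree (σ χ : L → ℂ) = H12.degree (χ : L → ℂ) := by
      unfold H12.degree
      show ⌊((twistIrr L z' χ : L → ℂ) 1).re⌋₊ = _
      rw [twistIrr_apply, show twist L z' (χ : L → ℂ) 1 = (χ : L → ℂ) 1 by
        rw [twist_apply]; exact congrArg (χ : L → ℂ) (Subtype.ext (by simp))]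
    have hmσ : m (σ χ) = m χ := by
      have h1 : classInner (fun x : commutator L => (σ χ : L → ℂ) x) (θ : commutator L → ℂ) =
          classInner (fun x : commutator L => (χ : L → ℂ) x) (θ : commutator L → ℂ) := by
        rw [H12.classInner_def, H12.classInner_def]
        congr 1
        refine Fintype.sum_equiv cj _ _ fun x => ?_
        show (twistIrr L z' χ : L → ℂ) _ * _ = (χ : L → ℂ) _ * _
        rw [twistIrr_apply, twist_apply]
        refine congrArg₂ (· * ·) rfl ?_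
        show (starRingEnd ℂ) (ω x : ℂ) = (starRingEnd ℂ) (ω (cj x) : ℂ)
        rw [show ω (cj x) = ω x from hzω' o' x _]
      rw [hm, hm] at h1
      exact_mod_cast h1
    rw [hd, hmσ]
  have hsum : ∑ χ : IrrCharacter L, m χ * H12.degree (χ : L → ℂ) = (commutator L).index := by
    have h1 := H12.classFunction_apply_eq_sum
      (indFun_isClassFunction (commutator L) (θ : commutator L → ℂ)) (1 : L)
    rw [indFun_apply_one, show (θ : commutator L → ℂ) 1 = ((ω 1 : ℂˣ) : ℂ) from rfl, map_one,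
      Units.val_one, mul_one] at h1
    have h2 : ∀ χ : IrrCharacter L, classInner (indFun (commutator L) (θ : commutator L → ℂ)) χ *
        (χ : L → ℂ) 1 = ((m χ * H12.degree (χ : L → ℂ) : ℕ) : ℂ) := fun χ => by
      rw [classInner_indFun_left _ _ (H12.irr_isClassFunction χ), ← H12.conj_classInner, hm,
        map_natCast, H12.irr_apply_one, Nat.cast_mul]
    rw [Finset.sum_congr rfl (fun χ _ => h2 χ), ← Nat.cast_sum] at h1
    exact_mod_cast h1.symm
  obtain ⟨χ, hχ, hχw⟩ := exists_fixed_weight σ hσ (fun χ => m χ * H12.degree (χ : L → ℂ)) hw (by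
    rw [hsum]
    intro hdvd
    have h1 : t ∣ s ^ k := hL ▸ hdvd.trans (Subgroup.index_dvd_card _)
    have h2 : t = s := (Nat.prime_dvd_prime_iff_eq ht hs).1 (ht.dvd_of_dvd_pow h1)
    exact hsc (h2 ▸ hto.trans hoc))
  have hm0 : m χ ≠ 0 := fun h0 => hχw (by simp [h0])
  have hnl : H12.degree (χ : L → ℂ) ≠ 1 := by
    intro h1
    apply hω
    refine MonoidHom.ext fun x => Units.ext ?_
    have hk := H16.kernel_constituent (H12.IsCharacter.res (H12.isCharacter_irr χ) (commutator L))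
      θ.2 (by rw [hm]; exact_mod_cast hm0) (b := x) (by
        simpa using H4.ThreeDeg.linear_kills χ h1 x.2)
    have hk' : ((ω x : ℂˣ) : ℂ) = ((ω 1 : ℂˣ) : ℂ) := hk
    rw [map_one] at hk'
    exact hk'
  apply hz'n
  refine mem_fixMod.2 ⟨hz'N, inertia_central hS χ (Or.inl hnl) hz'N ?_⟩
  rw [mem_inertia]
  exact congrArg Subtype.val hχ

end H4.NoDiv
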