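import Cfsg.Agent.H4.NoDiv.Core

/-!
Elements outside the kernel of the module have full classes; the derived subgroup is central.
-/

set_option autoImplicit false
set_option linter.style.haveILetI false
set_option linter.unusedSectionVars false

open Cfsg H13
open scoped commutatorElement

namespace H4.NoDiv

universe u

variable {G : Type u} [Group G] [Finite G] {L : Subgroup G} [L.Normal]

theorem linear_kills_derived (μ : L →* ℂˣ) {m : G} (hm : m ∈ ⁅L, L⁆) (hmL : m ∈ L) :
    μ ⟨m, hmL⟩ = 1 := by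
  rw [← Subgroup.map_subtype_commutator] at hm
  obtain ⟨m', hm', e⟩ := hm
  rw [show (⟨m, hmL⟩ : L) = m' from Subtype.ext e.symm]
  exact Abelianization.commutator_subset_ker μ hm'

/-- An element outside the kernel of the module moves everything it can. -/
theorem exists_commutator_eq [Fintype L] {E : Subgroup (L →* ℂˣ)}
    (hfix : ∀ φ : IrrCharacter L, H12.degree (φ : L → ℂ) ≠ 1 → ∀ μ ∈ E, μ ∈ fixChars φ)
    {a : L} (ha : ∃ μ ∈ E, μ a ≠ 1) {m : G} (hm : m ∈ ⁅L, L⁆) :
    ∃ g : L, ⁅(a : G), (g : G)⁆ = m := by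
  classical
  have hv : ∀ χ : IrrCharacter L, (χ : L → ℂ) 1 ≠ 1 → (χ : L → ℂ) a = 0 := by
    intro χ hχ
    obtain ⟨μ, hμ, hne⟩ := ha
    have h1 := hfix χ (fun h1 => hχ (by rw [H12.irr_apply_one, h1, Nat.cast_one])) μ hμ a
    by_contra h0
    exact hne (Units.ext (by rw [Units.val_one]; exact (mul_eq_right₀ h0).1 h1))
  set C := Subgroup.centralizer ({a} : Set L) with hC
  have hcard := card_centralizer_of_vanish hv
  have hmem : ∀ g : L, ⁅a, g⁆ ∈ commutator L := fun g => by
    rw [commutator_def]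
    exact Subgroup.commutator_mem_commutator (Subgroup.mem_top _) (Subgroup.mem_top _)
  let F : L ⧸ C → commutator L := Quotient.lift (fun g : L => (⟨⁅a, g⁆, hmem g⟩ : commutator L))
    (fun g g' hgg => by
      apply Subtype.ext
      have h1 : g⁻¹ * g' ∈ C := QuotientGroup.leftRel_apply.1 hgg
      rw [hC, Subgroup.mem_centralizer_singleton_iff] at h1
      show ⁅a, g⁆ = ⁅a, g'⁆
      have h2 : g' = g * (g⁻¹ * g') := by group
      rw [h2, commutatorElement_def, commutatorElement_def]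
      generalize g⁻¹ * g' = c at h1 ⊢
      rw [mul_inv_rev, show a * (g * c) * a⁻¹ * (c⁻¹ * g⁻¹) = a * g * (c * a⁻¹ * c⁻¹) * g⁻¹ by group,
        show c * a⁻¹ * c⁻¹ = a⁻¹ by
          rw [(show Commute c a from h1).inv_right.eq]; group])
  have hinj : Function.Injective F := by
    intro x y hxy
    induction x using Quotient.inductionOn' with
    | _ g =>
    induction y using Quotient.inductionOn' with
    | _ g' =>
      refine Quotient.sound' (QuotientGroup.leftRel_apply.2 ?_)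
      rw [hC, Subgroup.mem_centralizer_singleton_iff]
      have h1 : ⁅a, g⁆ = ⁅a, g'⁆ := congrArg Subtype.val hxy
      rw [commutatorElement_def, commutatorElement_def] at h1
      calc g⁻¹ * g' * a = g⁻¹ * (a * g' * a⁻¹ * g'⁻¹)⁻¹ * a * g' := by group
        _ = g⁻¹ * (a * g * a⁻¹ * g⁻¹)⁻¹ * a * g' := by rw [h1]
        _ = a * (g⁻¹ * g') := by group
  haveI := Fintype.ofFinite (L ⧸ C)
  haveI := Fintype.ofFinite (commutator L)
  have hbij : Function.Bijective F := (Nat.bijective_iff_injective_and_card F).2 ⟨hinj, by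
    have h1 := Subgroup.card_eq_card_quotient_mul_card_subgroup C
    rw [← Subgroup.card_mul_index (commutator L), hC, hcard] at h1
    exact (Nat.eq_of_mul_eq_mul_right (Nat.pos_of_ne_zero Subgroup.index_ne_zero_of_finite)
      (h1.trans (by rw [hC]))).symm⟩
  have hm' : m ∈ (commutator L).map L.subtype := by rwa [Subgroup.map_subtype_commutator]
  obtain ⟨m', hm'', e⟩ := hm'
  obtain ⟨q, hq⟩ := hbij.2 ⟨m', hm''⟩
  induction q using Quotient.inductionOn' with
  | _ g =>
    refine ⟨g, ?_⟩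
    rw [← e, ← show ⁅a, g⁆ = m' from congrArg Subtype.val hq]
    rfl

theorem exists_s_part {s : ℕ} (hs : s.Prime) {μ : L →* ℂˣ} (hμ : μ ^ s = 1) {a : L} (ha : μ a ≠ 1) :
    ∃ n : ℕ, μ (a ^ n) ≠ 1 ∧ ∃ k : ℕ, (a ^ n) ^ s ^ k = 1 := by
  refine ⟨orderOf a / s ^ (orderOf a).factorization s, fun h1 => ha ?_,
    (orderOf a).factorization s, ?_⟩
  · rw [map_pow] at h1
    have hco : s.Coprime (orderOf a / s ^ (orderOf a).factorization s) :=
      Nat.coprime_ordCompl hs (orderOf_pos a).ne'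
    refine orderOf_eq_one_iff.1 (Nat.eq_one_of_dvd_coprimes hco
      (orderOf_dvd_of_pow_eq_one (DFunLike.congr_fun hμ a)) (orderOf_dvd_of_pow_eq_one h1))
  · rw [← pow_mul, Nat.div_mul_cancel (Nat.ordProj_dvd _ _), pow_orderOf_eq_one]

/-- An `s`-element moving the module fixes only the `s`-part of the derived subgroup. -/
theorem fixed_is_s [Fintype L] {E : Subgroup (L →* ℂˣ)}
    (hfix : ∀ φ : IrrCharacter L, H12.degree (φ : L → ℂ) ≠ 1 → ∀ μ ∈ E, μ ∈ fixChars φ)
    {s : ℕ} {a : L} {k : ℕ} (hk : a ^ s ^ k = 1) (ha : ∃ μ ∈ E, μ a ≠ 1) {m : G}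
    (hm : m ∈ ⁅L, L⁆) (hc : (a : G) * m = m * a) : m ^ s ^ k = 1 := by
  obtain ⟨g, hg⟩ := exists_commutator_eq hfix ha hm
  have h1 : ∀ i : ℕ, (a : G) ^ i * g * ((a : G) ^ i)⁻¹ = m ^ i * g := by
    intro i
    induction i with
    | zero => simp
    | succ i ih =>
      calc (a : G) ^ (i + 1) * g * ((a : G) ^ (i + 1))⁻¹
          = a * ((a : G) ^ i * g * ((a : G) ^ i)⁻¹) * (a : G)⁻¹ := by rw [pow_succ']; group
        _ = a * m ^ i * g * (a : G)⁻¹ := by rw [ih]; group
        _ = m ^ i * (a * g * (a : G)⁻¹) := by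
            rw [((show Commute (a : G) m from hc).pow_right i).eq]; group
        _ = m ^ (i + 1) * g := by
            rw [show (a : G) * g * (a : G)⁻¹ = m * g by
              rw [← hg, commutatorElement_def]; group, pow_succ]
            group
  have h2 := h1 (s ^ k)
  rw [← Subgroup.coe_pow, hk, Subgroup.coe_one, one_mul, inv_one, mul_one] at h2
  exact mul_eq_right.1 h2.symm

/-- The derived subgroup is central, of exponent `s`. -/
theorem derived_central [Fintype L] (hne : ⁅L, L⁆ ≠ ⊥)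
    (hmin : ∀ X : Subgroup G, X.Normal → X ≤ ⁅L, L⁆ → X ≠ ⊥ → ⁅L, L⁆ ≤ X)
    {r : ℕ} (hr : r.Prime) (hMr : ∀ m ∈ ⁅L, L⁆, m ^ r = 1)
    (hMab : ∀ a ∈ ⁅L, L⁆, ∀ b ∈ ⁅L, L⁆, a * b = b * a)
    {s : ℕ} (hs : s.Prime) {E : Subgroup (L →* ℂˣ)} (hEs : ∀ μ ∈ E, μ ^ s = 1) (hE1 : E ≠ ⊥)
    (hEcard : s < Nat.card E)
    (hfix : ∀ φ : IrrCharacter L, H12.degree (φ : L → ℂ) ≠ 1 → ∀ μ ∈ E, μ ∈ fixChars φ) :
    r = s ∧ ∀ g ∈ L, ∀ m ∈ ⁅L, L⁆, g * m = m * g := by
  classical
  set M := ⁅L, L⁆ with hM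
  haveI hMn : M.Normal := Subgroup.commutator_normal L L
  have hML : M ≤ L := Subgroup.commutator_le_self L
  obtain ⟨μ₀, hμ₀, hμ₀1⟩ := E.ne_bot_iff_exists_ne_one.1 hE1 |> fun ⟨x, hx⟩ =>
    (⟨x.1, x.2, fun h => hx (Subtype.ext h)⟩ : ∃ μ, μ ∈ E ∧ μ ≠ 1)
  obtain ⟨a₁, ha₁⟩ : ∃ a : L, μ₀ a ≠ 1 := by
    by_contra hno
    simp only [not_exists, not_not] at hno
    exact hμ₀1 (MonoidHom.ext hno)
  -- an `s`-element outside the kernel fixes no element of `M` when `r ≠ s`
  have hfpf : r ≠ s → ∀ a : L, ∀ μ ∈ E, μ a ≠ 1 → ∀ m ∈ M, (a : G) * m = m * a → m = 1 := by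
    intro hrs a μ hμ hμa m hm hc
    obtain ⟨n, hn, k, hk⟩ := exists_s_part hs (hEs μ hμ) hμa
    have h1 := fixed_is_s hfix hk ⟨μ, hμ, hn⟩ hm (by
      rw [Subgroup.coe_pow]; exact ((show Commute (a : G) m from hc).pow_left n).eq)
    exact orderOf_eq_one_iff.1 (Nat.eq_one_of_dvd_coprimes
      (((Nat.coprime_primes hr hs).2 hrs).pow_right k) (orderOf_dvd_of_pow_eq_one (hMr m hm))
      (orderOf_dvd_of_pow_eq_one h1))
  have hrs : r = s := by
    by_contra hrs
    -- a minimal normal subgroup of `L` inside `M`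
    set MM : Subgroup L := M.subgroupOf L with hMM
    have hMMne : MM ≠ ⊥ := fun h => hne (by
      rw [eq_bot_iff]
      intro x hx
      have h1 : (⟨x, hML hx⟩ : L) ∈ MM := hx
      rw [h, Subgroup.mem_bot] at h1
      exact congrArg Subtype.val h1)
    obtain ⟨U, ⟨hUn, hUM, hU1⟩, hUmin⟩ := Set.Finite.exists_minimal
      (s := {U : Subgroup L | U.Normal ∧ U ≤ MM ∧ U ≠ ⊥}) (Set.toFinite _)
      ⟨MM, hMn.subgroupOf L, le_rfl, hMMne⟩
    haveI := hUn
    let ψ : L →* MulAut U := MulAut.conjNormal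
    have hψ : ∀ x : L, ∀ u : U, ψ x u = u ↔ (x : G) * ((u : L) : G) = ((u : L) : G) * x := by
      intro x u
      rw [Subtype.ext_iff, MulAut.conjNormal_apply, mul_inv_eq_iff_eq_mul, Subtype.ext_iff]
      rfl
    have hcM : ∀ x g : L, ⁅(x : G), (g : G)⁆ ∈ M := fun x g =>
      Subgroup.commutator_mem_commutator x.2 g.2
    let F := ψ.range
    haveI : Nontrivial U := (Subgroup.nontrivial_iff_ne_bot U).2 hU1
    letI : CommGroup U :=
      { (inferInstance : Group U) with
        mul_comm := fun a b => Subtype.ext (Subtype.ext (hMab _ (hUM a.2) _ (hUM b.2))) }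
    letI : MulDistribMulAction F U := MulDistribMulAction.compHom U F.subtype
    have hFcyc : IsCyclic F := by
      refine H2.isCyclic_of_fpf_comm (M := U) ?_ ?_
      · rintro ⟨_, x, rfl⟩ hne1 u hu
        by_contra hu1
        apply hne1
        -- the fixed points form a normal subgroup
        let W : Subgroup L := U ⊓ Subgroup.centralizer ({x} : Set L)
        have hWn : W.Normal := ⟨fun w hw g => ⟨hUn.conj_mem w hw.1 g, by
          have h1 : (x : G) * (w : G) = (w : G) * x := congrArg Subtype.val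
            (Subgroup.mem_centralizer_singleton_iff.1 hw.2).symm
          have hgw : (g : G) * (w : G) * (g : G)⁻¹ ∈ M := hMn.conj_mem _ (hUM hw.1) g
          have h2 := hMab _ (hcM x g) _ hgw
          refine Subgroup.mem_centralizer_singleton_iff.2 (Subtype.ext ?_)
          show (g : G) * w * (g : G)⁻¹ * x = x * ((g : G) * w * (g : G)⁻¹)
          symm
          calc (x : G) * (g * w * (g : G)⁻¹)
              = ⁅(x : G), (g : G)⁆ * g * ((x : G) * w) * (g : G)⁻¹ := by
                rw [commutatorElement_def]; group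
            _ = (⁅(x : G), (g : G)⁆ * (g * w * (g : G)⁻¹)) * (g * x * (g : G)⁻¹) := by
                rw [h1]; group
            _ = (g * w * (g : G)⁻¹) * ⁅(x : G), (g : G)⁆ * (g * x * (g : G)⁻¹) := by rw [h2]
            _ = g * w * (g : G)⁻¹ * x := by rw [commutatorElement_def]; group⟩⟩
        have hW : W = U := le_antisymm inf_le_left (hUmin (y := W) ⟨hWn, inf_le_left.trans hUM,
          fun hW => hu1 (by
            have : (u : L) ∈ W := ⟨u.2, Subgroup.mem_centralizer_singleton_iff.2 (Subtype.ext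
              ((hψ x u).1 hu).symm)⟩
            rw [hW, Subgroup.mem_bot] at this
            exact Subtype.ext this)⟩ inf_le_left)
        refine Subtype.ext (MulEquiv.ext fun v => (hψ x v).2 ?_)
        have hv : (v : L) ∈ W := hW.symm ▸ v.2
        exact (congrArg Subtype.val (Subgroup.mem_centralizer_singleton_iff.1 hv.2)).symm
      · rintro ⟨_, x, rfl⟩ ⟨_, g, rfl⟩
        apply Subtype.ext
        show ψ x * ψ g = ψ g * ψ x
        rw [← commutatorElement_eq_one_iff_mul_comm, ← map_commutatorElement]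
        exact MulEquiv.ext fun v => (hψ _ v).2 (hMab _ (hcM x g) _ (hUM v.2))
    -- the kernel is killed by the module
    have hker : ∀ μ ∈ E, ∀ x : L, ψ x = 1 → μ x = 1 := by
      intro μ hμ x hx
      by_contra hne1
      obtain ⟨u, hu1⟩ := exists_ne (1 : U)
      refine hu1 (Subtype.ext (Subtype.ext (hfpf hrs x μ hμ hne1 _ (hUM u.2) ?_)))
      exact (hψ x u).1 (by rw [hx]; rfl)
    obtain ⟨g₀, hg₀⟩ := hFcyc.exists_generator
    obtain ⟨_, l₀, rfl⟩ := g₀
    haveI : NeZero s := ⟨hs.ne_zero⟩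
    have hle : Nat.card E ≤ Nat.card (rootsOfUnity s ℂ) := by
      refine Nat.card_le_card_of_injective (fun μ : E => (⟨(μ : L →* ℂˣ) l₀, by
        rw [mem_rootsOfUnity]
        exact DFunLike.congr_fun (hEs _ μ.2) l₀⟩ : rootsOfUnity s ℂ)) fun μ ν hμν => ?_
      have h0 : (μ : L →* ℂˣ) l₀ = (ν : L →* ℂˣ) l₀ := congrArg Subtype.val hμν
      refine Subtype.ext (MonoidHom.ext fun l => ?_)
      obtain ⟨j, hj⟩ := Subgroup.mem_zpowers_iff.1 (hg₀ ⟨ψ l, l, rfl⟩)
      have h3 : ψ ((l₀ ^ j)⁻¹ * l) = 1 := by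
        have h2 : ψ l₀ ^ j = ψ l := congrArg Subtype.val hj
        rw [map_mul, map_inv, map_zpow, h2, inv_mul_cancel]
      have h4 := hker _ μ.2 _ h3
      have h5 := hker _ ν.2 _ h3
      rw [map_mul, map_inv, map_zpow, inv_mul_eq_one] at h4 h5
      rw [← h4, ← h5, h0]
    have hle' := hle.trans (card_rootsOfUnity (R := ℂ) (k := s))
    omega
  subst hrs
  refine ⟨rfl, ?_⟩
  haveI := Fact.mk hr
  -- the `r`-part of `L`
  have hquot : ∀ a b : G, a ∈ L → b ∈ L → ∀ n : ℕ, ∃ m ∈ M, (a * b) ^ n = m * (a ^ n * b ^ n) := by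
    intro a b ha hb n
    refine ⟨(a * b) ^ n * (a ^ n * b ^ n)⁻¹, ?_, by group⟩
    have h1 : (QuotientGroup.mk' (commutator L)) ((⟨a, ha⟩ * ⟨b, hb⟩ : L) ^ n *
        ((⟨a, ha⟩ : L) ^ n * (⟨b, hb⟩ : L) ^ n)⁻¹) = 1 := by
      have hcm : ∀ x y : L ⧸ commutator L, Commute x y := fun x y =>
        (mul_comm (G := Abelianization L) x y : _)
      rw [map_mul, map_inv, map_pow, map_mul, map_mul, map_pow, map_pow, (hcm _ _).mul_pow,
        mul_inv_cancel]
    have h2 : ((⟨a, ha⟩ * ⟨b, hb⟩ : L) ^ n *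
        ((⟨a, ha⟩ : L) ^ n * (⟨b, hb⟩ : L) ^ n)⁻¹) ∈ commutator L :=
      (QuotientGroup.eq_one_iff _).1 h1
    have h3 := Subgroup.mem_map_of_mem L.subtype h2
    rw [Subgroup.map_subtype_commutator] at h3
    simpa using h3
  let S : Subgroup G :=
    { carrier := {x | x ∈ L ∧ ∃ k : ℕ, x ^ r ^ k = 1}
      one_mem' := ⟨one_mem _, 0, one_pow _⟩
      mul_mem' := fun {a b} ha hb => by
        obtain ⟨haL, i, hi⟩ := ha
        obtain ⟨hbL, j, hj⟩ := hb
        obtain ⟨m, hm, hmeq⟩ := hquot a b haL hbL (r ^ (i + j))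
        refine ⟨mul_mem haL hbL, i + j + 1, ?_⟩
        rw [pow_succ r, pow_mul, hmeq, show a ^ r ^ (i + j) = 1 by rw [pow_add, pow_mul, hi, one_pow],
          show b ^ r ^ (i + j) = 1 by rw [add_comm, pow_add, pow_mul, hj, one_pow], one_mul, mul_one]
        exact hMr m hm
      inv_mem' := fun {a} ha => ⟨inv_mem ha.1, ha.2.imp fun k hk => by rw [inv_pow, hk, inv_one]⟩ }
  have hSn : S.Normal := ⟨fun x hx g => ⟨Subgroup.Normal.conj_mem inferInstance x hx.1 g,
    hx.2.imp fun k hk => by rw [conj_pow, hk, mul_one, mul_inv_cancel]⟩⟩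
  have hMS : M ≤ S := fun m hm => ⟨hML hm, 1, by rw [pow_one]; exact hMr m hm⟩
  have hSp : IsPGroup r S := fun x => x.2.2.imp fun k hk => Subtype.ext (by simpa using hk)
  have hSM : ∀ x ∈ S, ∀ m ∈ M, x * m = m * x := by
    let X : Subgroup G := M ⊓ Subgroup.centralizer (S : Set G)
    haveI := hSn
    have hXn : X.Normal := Subgroup.normal_inf_normal _ _
    have hX : X ≠ ⊥ := by
      letI : MulAction S M :=
        MulAction.compHom M ((MulAut.conjNormal (H := M)).comp S.subtype)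
      have hdvd : r ∣ Nat.card M := by
        obtain ⟨⟨m, hm⟩, hm1⟩ := M.ne_bot_iff_exists_ne_one.1 hne
        have h2 := orderOf_eq_prime (hMr m hm) (fun h => hm1 (Subtype.ext h))
        rw [← h2, ← Subgroup.orderOf_mk m hm]
        exact orderOf_dvd_natCard _
      obtain ⟨m, hm, hm1⟩ := IsPGroup.exists_fixed_point_of_prime_dvd_card_of_fixed_point hSp M hdvd
        (a := 1) (fun y => map_one (MulAut.conjNormal (y : G)))
      intro hX
      apply hm1
      symm
      apply Subtype.ext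
      have : (m : G) ∈ X := ⟨m.2, Subgroup.mem_centralizer_iff.2 fun y hy => by
        have h1 := congrArg Subtype.val (hm ⟨y, hy⟩)
        have h2 : y * m * y⁻¹ = m := by rw [← MulAut.conjNormal_apply]; exact h1
        calc y * (m : G) = (y * m * y⁻¹) * y := by group
          _ = m * y := by rw [h2]⟩
      rw [hX, Subgroup.mem_bot] at this
      exact this
    intro x hx m hm
    exact Subgroup.mem_centralizer_iff.1 (hmin X hXn inf_le_left hX hm).2 x hx
  -- the other part centralises `S`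
  have hb : ∀ b : L, (orderOf b).Coprime r → ∀ x ∈ S, (b : G) * x = x * b := by
    intro b hbr
    have hout : ∀ x : G, ∀ hx : x ∈ L, x ∈ S → (∃ μ ∈ E, μ ⟨x, hx⟩ ≠ 1) → (b : G) * x = x * b := by
      intro x hx hxS hμ
      set C := Subgroup.centralizer ({(⟨x, hx⟩ : L)} : Set L) with hC
      have hcomle : commutator L ≤ C := fun m hm => by
        rw [hC, Subgroup.mem_centralizer_singleton_iff]
        apply Subtype.ext
        have hm' : (m : G) ∈ M := by
          rw [hM, ← Subgroup.map_subtype_commutator]; exact Subgroup.mem_map_of_mem _ hm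
        exact (hSM x hxS _ hm').symm
      haveI hCn : C.Normal := Subgroup.Normal.of_commutator_le (G := L) hcomle
      have hidx : C.index = Nat.card (commutator L) := by
        have hv : ∀ χ : IrrCharacter L, (χ : L → ℂ) 1 ≠ 1 → (χ : L → ℂ) ⟨x, hx⟩ = 0 := by
          intro χ hχ
          obtain ⟨μ, hμE, hne⟩ := hμ
          have h1 := hfix χ (fun h1 => hχ (by rw [H12.irr_apply_one, h1, Nat.cast_one])) μ hμE ⟨x, hx⟩
          by_contra h0
          exact hne (Units.ext (by rw [Units.val_one]; exact (mul_eq_right₀ h0).1 h1))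
        have h1 := Subgroup.card_mul_index C
        rw [hC, card_centralizer_of_vanish hv, ← Subgroup.card_mul_index (commutator L),
          mul_comm] at h1
        exact Nat.eq_of_mul_eq_mul_right (Nat.pos_of_ne_zero Subgroup.index_ne_zero_of_finite) h1
      have hp : IsPGroup r (commutator L) := fun m => ⟨1, Subtype.ext (Subtype.ext (by
        rw [pow_one]
        simp only [Subgroup.coe_pow, OneMemClass.coe_one]
        apply hMr
        rw [hM, ← Subgroup.map_subtype_commutator]; exact Subgroup.mem_map_of_mem _ m.2))⟩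
      obtain ⟨k, hk⟩ := IsPGroup.iff_card.1 hp
      have hbC : b ∈ C := by
        obtain ⟨j, hj⟩ := exists_pow_eq_self_of_coprime (x := b) (n := r ^ k) (hbr.symm.pow_left k)
        rw [← hj, ← hk, ← hidx]
        exact pow_mem (Subgroup.pow_index_mem C b) j
      rw [hC, Subgroup.mem_centralizer_singleton_iff] at hbC
      exact congrArg Subtype.val hbC
    intro x hx
    obtain ⟨n, hn, k, hk⟩ := exists_s_part hr (hEs μ₀ hμ₀) ha₁
    have haS : ((a₁ ^ n : L) : G) ∈ S :=
      ⟨(a₁ ^ n).2, k, by rw [← Subgroup.coe_pow, hk, Subgroup.coe_one]⟩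
    by_cases hμx : μ₀ ⟨x, hx.1⟩ = 1
    · have h1 := hout (x * (a₁ ^ n : L)) (L.mul_mem hx.1 (a₁ ^ n).2) (S.mul_mem hx haS)
        ⟨μ₀, hμ₀, by
          rw [show (⟨x * (a₁ ^ n : L), _⟩ : L) = (⟨x, hx.1⟩ : L) * a₁ ^ n from rfl, map_mul, hμx,
            one_mul]
          exact hn⟩
      have h2 := hout _ (a₁ ^ n).2 haS ⟨μ₀, hμ₀, hn⟩
      have h3 : Commute (b : G) (x * (a₁ ^ n : L)) := h1
      simpa using (h3.mul_right (show Commute (b : G) (a₁ ^ n : L) from h2).inv_right).eq
    · exact hout x hx.1 hx ⟨μ₀, hμ₀, hμx⟩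
  intro g hg m hm
  set o := orderOf (⟨g, hg⟩ : L) with ho
  have ho0 : o ≠ 0 := (orderOf_pos _).ne'
  set k := o.factorization r
  set o' := o / r ^ k with ho'
  have hmul : r ^ k * o' = o := Nat.mul_div_cancel' (Nat.ordProj_dvd _ _)
  have hco : (r ^ k).Coprime o' := (Nat.coprime_ordCompl hr ho0).pow_left k
  have h1 : Commute (g ^ o') m := by
    refine hSM _ ⟨L.pow_mem hg _, k, ?_⟩ m hm
    rw [← pow_mul, mul_comm, hmul]
    exact congrArg Subtype.val (pow_orderOf_eq_one (⟨g, hg⟩ : L))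
  have h2 : Commute (g ^ r ^ k) m := by
    refine hb ((⟨g, hg⟩ : L) ^ r ^ k) ?_ m (hMS hm)
    refine (Nat.coprime_ordCompl hr ho0).symm.coprime_dvd_left (orderOf_dvd_of_pow_eq_one ?_)
    rw [← pow_mul, hmul, pow_orderOf_eq_one]
  have hg' : g = (g ^ r ^ k) ^ ((r ^ k).gcdA o') * (g ^ o') ^ ((r ^ k).gcdB o') := by
    have hbz := Nat.gcd_eq_gcd_ab (r ^ k) o'
    rw [show Nat.gcd (r ^ k) o' = 1 from hco, Nat.cast_one] at hbz
    rw [← zpow_natCast g (r ^ k), ← zpow_natCast g o', ← zpow_mul, ← zpow_mul, ← zpow_add, ← hbz,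
      zpow_one]
  rw [hg']
  exact ((h2.zpow_left _).mul_left (h1.zpow_left _)).eq

end H4.NoDiv
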