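import Cfsg.Agent.H4.NoDiv.Step

/-!
The kernel of the cyclic section is abelian: reduction to a minimal derived kernel.
-/

set_option autoImplicit false
set_option linter.style.haveILetI false
set_option linter.unusedSectionVars false

open Cfsg H13
open scoped commutatorElement

namespace H4.NoDiv

universe u

variable {G : Type u} [Group G] [Finite G] {N L : Subgroup G} [N.Normal] [L.Normal] {h : G} {f : ℕ}

theorem Setup.map {G' : Type u} [Group G'] [Finite G'] (hS : Setup N L h f) (π : G →* G')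
    (hπ : Function.Surjective π) (hker : π.ker ≤ L) [(N.map π).Normal] [(L.map π).Normal]
    (lam : (L.map π) →* ℂˣ)
    (hmv : ∀ z ∈ N, H21.dualAct (L.map π) (π z) lam = lam → z ∈ L) :
    Setup (N.map π) (L.map π) (π h) f := by
  classical
  have hLc : (L.map π).comap π = L := Subgroup.comap_map_eq_self hker
  have hrel : (L.map π).relIndex (N.map π) = L.relIndex N := by
    rw [← Subgroup.relIndex_comap, hLc]
  let πN : N →* (N.map π) := π.subgroupMap N
  have hπN : Function.Surjective πN := π.subgroupMap_surjective N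
  have hle : (L.map π) ≤ (N.map π) := Subgroup.map_mono hS.le
  haveI := hS.cyc
  have hcyc : IsCyclic ((N.map π) ⧸ (L.map π).subgroupOf (N.map π)) := by
    let g : N ⧸ L.subgroupOf N →* (N.map π) ⧸ (L.map π).subgroupOf (N.map π) :=
      QuotientGroup.lift _ ((QuotientGroup.mk' _).comp πN) (fun x hx => by
        rw [MonoidHom.mem_ker, MonoidHom.comp_apply, QuotientGroup.mk'_apply,
          QuotientGroup.eq_one_iff]
        exact Subgroup.mem_map_of_mem π (Subgroup.mem_subgroupOf.1 hx))
    refine isCyclic_of_surjective g fun q => ?_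
    obtain ⟨x, rfl⟩ := QuotientGroup.mk_surjective q
    obtain ⟨y, rfl⟩ := hπN x
    exact ⟨QuotientGroup.mk y, rfl⟩
  have hpull : ∀ ψ : IrrCharacter (N.map π), ∃ ψ₀ : IrrCharacter N,
      (∀ n : N, (ψ₀ : N → ℂ) n = (ψ : (N.map π) → ℂ) (πN n)) ∧
      H12.degree (ψ₀ : N → ℂ) = H12.degree (ψ : (N.map π) → ℂ) := fun ψ =>
    ⟨⟨_, H12.IsIrrCharacter.comp_surjective ψ.2 (f := πN) hπN⟩, fun n => rfl, by
      unfold H12.degree
      show ⌊((ψ : (N.map π) → ℂ) (πN 1)).re⌋₊ = _
      rw [map_one]⟩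
  refine
    { le := hle
      cyc := hcyc
      gen := fun g => ?_
      hpow := by rw [← map_pow]; exact Subgroup.mem_map_of_mem π hS.hpow
      cop := hrel.symm ▸ hS.cop
      moved := ?_
      inv := ?_
      nd := ?_
      deg := ?_ }
  · obtain ⟨g₀, rfl⟩ := hπ g
    obtain ⟨i, hi⟩ := hS.gen g₀
    exact ⟨i, by simpa using Subgroup.mem_map_of_mem π hi⟩
  · obtain ⟨n, hn, hne⟩ := hS.moved
    refine ⟨π n, Subgroup.mem_map_of_mem π hn, fun hmem => hne ?_⟩
    rw [← map_commutatorElement] at hmem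
    exact hLc ▸ hmem
  · intro ψ hψ g
    obtain ⟨g₀, rfl⟩ := hπ g
    obtain ⟨ψ₀, hval, hdeg⟩ := hpull ψ
    funext n'
    obtain ⟨n, rfl⟩ := hπN n'
    have h1 := congrFun (hS.inv ψ₀ (hdeg ▸ hψ) g₀) n
    rw [twist_apply, hval, hval] at h1
    rw [twist_apply]
    refine Eq.trans ?_ h1
    exact congrArg (ψ : (N.map π) → ℂ) (Subtype.ext (by
      show π g₀ * π (n : G) * (π g₀)⁻¹ = π (g₀ * (n : G) * g₀⁻¹)
      simp))
  · intro ψ ψ' h1 h2
    obtain ⟨ψ₀, -, hdeg⟩ := hpull ψ
    obtain ⟨ψ₀', -, hdeg'⟩ := hpull ψ'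
    rw [← hdeg, ← hdeg'] at h2 ⊢
    exact hS.nd ψ₀ ψ₀' (hdeg ▸ h1) h2
  · haveI := hcyc
    haveI := Fintype.ofFinite (N.map π)
    haveI := Fintype.ofFinite (L.map π)
    haveI := Fintype.ofFinite ((L.map π).subgroupOf (N.map π))
    let ι := Subgroup.subgroupOfEquivOfLe hle
    let φ₀ : IrrCharacter ((L.map π).subgroupOf (N.map π)) :=
      ⟨(H12.linIrr lam : (L.map π) → ℂ) ∘ ι, isIrrCharacter_comp_equiv ι (H12.linIrr lam).2⟩
    obtain ⟨ψ, hψ⟩ := exists_over_degree ((L.map π).subgroupOf (N.map π)) φ₀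
    refine ⟨ψ, ?_⟩
    have h1 : H12.degree (φ₀ : (L.map π).subgroupOf (N.map π) → ℂ) = 1 := by
      unfold H12.degree
      rw [show (φ₀ : (L.map π).subgroupOf (N.map π) → ℂ) 1 = ((lam 1 : ℂˣ) : ℂ) from rfl, map_one,
        Units.val_one]
      simp
    have hin : inertia ((L.map π).subgroupOf (N.map π)) (φ₀ : (L.map π).subgroupOf (N.map π) → ℂ) = (L.map π).subgroupOf (N.map π) := by
      refine le_antisymm (fun n hn => ?_) (le_inertia _ (H12.irr_isClassFunction φ₀))
      obtain ⟨z, hz⟩ := hπN n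
      subst hz
      rw [mem_inertia] at hn
      refine Subgroup.mem_map_of_mem π (hmv z z.2 ?_)
      refine MonoidHom.ext fun y' => Units.ext ?_
      have hw : (π z)⁻¹ * (y' : G') * π z ∈ (L.map π) := by
        have := Subgroup.Normal.conj_mem inferInstance _ y'.2 (π z)⁻¹
        rwa [inv_inv] at this
      have h2 := congrFun hn ⟨⟨(π z)⁻¹ * (y' : G') * π z, hle hw⟩, Subgroup.mem_subgroupOf.2 hw⟩
      rw [twist_apply] at h2
      rw [H21.dualAct_apply]
      refine Eq.trans ?_ (h2.symm.trans ?_)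
      · rfl
      · refine congrArg (fun w => ((lam w : ℂˣ) : ℂ)) (Subtype.ext ?_)
        show π z * ((π z)⁻¹ * (y' : G') * π z) * (π z)⁻¹ = (y' : G')
        group
    rw [hψ, h1, mul_one, hin]
    rfl

theorem core_aux : ∀ (n : ℕ) (G : Type u) [Group G] [Finite G] [Group.IsSolvable G]
    (N L : Subgroup G) [N.Normal] [L.Normal] (h : G) (f : ℕ), Nat.card G ≤ n →
    Setup N L h f → ∀ (s : ℕ), s.Prime → ¬ s ∣ L.relIndex N → ∀ lam0 : L →* ℂˣ, lam0 ^ s = 1 →
    (∃ z ∈ N, H21.dualAct L z lam0 ≠ lam0) → ⁅L, L⁆ = ⊥ := by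
  intro n
  induction n with
  | zero =>
    intro G _ _ _ N L _ _ h f hn
    have := Nat.card_pos (α := G)
    omega
  | succ n ih =>
    intro G _ _ _ N L _ _ h f hn hS s hs hsc lam0 hlam hmv
    classical
    haveI := Fintype.ofFinite L
    refine core_step hS hs hsc lam0 hlam hmv fun X hXn hXL hX hXlam => ?_
    haveI := hXn
    set π := QuotientGroup.mk' X with hπdef
    have hπ : Function.Surjective π := QuotientGroup.mk'_surjective X
    have hker : π.ker ≤ L := by rw [hπdef, QuotientGroup.ker_mk']; exact hXL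
    haveI : (N.map π).Normal := Subgroup.Normal.map inferInstance π hπ
    haveI : (L.map π).Normal := Subgroup.Normal.map inferInstance π hπ
    let πL : L →* L.map π := π.subgroupMap L
    have hπL : Function.Surjective πL := π.subgroupMap_surjective L
    have hkerL : πL.ker ≤ lam0.ker := fun x hx => by
      rw [MonoidHom.mem_ker] at hx ⊢
      refine hXlam x ?_
      rw [← QuotientGroup.eq_one_iff]
      exact congrArg Subtype.val hx
    let lam : L.map π →* ℂˣ := πL.liftOfSurjective hπL ⟨lam0, hkerL⟩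
    have hlam' : ∀ x : L, lam (πL x) = lam0 x := fun x =>
      MonoidHom.liftOfRightInverse_comp_apply _ _ _ ⟨lam0, hkerL⟩ x
    have hfixd : ∀ z : G, H21.dualAct (L.map π) (π z) lam = lam → H21.dualAct L z lam0 = lam0 := by
      intro z hz
      refine MonoidHom.ext fun x => ?_
      have h1 := DFunLike.congr_fun hz (πL x)
      rw [H21.dualAct_apply, hlam'] at h1
      rw [H21.dualAct_apply, ← hlam']
      refine Eq.trans ?_ h1
      exact congrArg lam (Subtype.ext (by simp [πL]))
    have hS' := hS.map π hπ hker lam fun z hz hfix => stab_linear hS lam0 hmv hz (hfixd z hfix)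
    have hcard : Nat.card (G ⧸ X) ≤ n := by
      have h1 := Subgroup.card_eq_card_quotient_mul_card_subgroup X
      have h2 := X.one_lt_card_iff_ne_bot.2 hX
      have h3 : Nat.card (G ⧸ X) < Nat.card G := by
        rw [h1]
        exact lt_mul_of_one_lt_right Nat.card_pos h2
      omega
    haveI : Group.IsSolvable (G ⧸ X) := Group.isSolvable_of_surjective hπ
    have hres := ih (G ⧸ X) (N.map π) (L.map π) (π h) f hcard hS' s hs (by
      have e : (L.map π).relIndex (N.map π) = L.relIndex N := by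
        rw [← Subgroup.relIndex_comap, Subgroup.comap_map_eq_self hker]
      rwa [e]) lam (MonoidHom.ext fun y => by
        obtain ⟨x, rfl⟩ := hπL y
        show lam (πL x) ^ s = 1
        rw [hlam']
        exact DFunLike.congr_fun hlam x) (by
        obtain ⟨z, hz, hne⟩ := hmv
        exact ⟨π z, Subgroup.mem_map_of_mem π hz, fun e => hne (hfixd z e)⟩)
    rw [← Subgroup.map_commutator, Subgroup.map_eq_bot_iff, hπdef, QuotientGroup.ker_mk'] at hres
    exact hres

/-- The kernel of the cyclic section is abelian. -/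
theorem core [Group.IsSolvable G] (hS : Setup N L h f) {s : ℕ} (hs : s.Prime)
    (hsc : ¬ s ∣ L.relIndex N) (lam0 : L →* ℂˣ) (hlam : lam0 ^ s = 1)
    (hmv : ∃ z ∈ N, H21.dualAct L z lam0 ≠ lam0) : ⁅L, L⁆ = ⊥ :=
  core_aux _ G N L h f le_rfl hS s hs hsc lam0 hlam hmv

end H4.NoDiv
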