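import Cfsg.Agent.H4.NoDiv.Clifford
import Cfsg.Agent.H15.AbelianInertia
import Cfsg.Agent.H21.ResidualDegree
import Cfsg.Agent.H24.Quot

/-!
A nonabelian residual quotient and no divisibility among degrees: two degrees only.
-/

set_option autoImplicit false
set_option linter.style.haveILetI false
set_option linter.unusedSectionVars false

open Cfsg H13
open scoped commutatorElement

namespace H4.NoDiv

universe u

variable {G : Type u} [Group G] [Finite G]

/-- No nontrivial divisibility among character degrees. -/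
def ND (G : Type u) [Group G] : Prop :=
  ∀ χ χ' : IrrCharacter G, 1 < H12.degree (χ : G → ℂ) →
    H12.degree (χ : G → ℂ) ∣ H12.degree (χ' : G → ℂ) →
    H12.degree (χ' : G → ℂ) = H12.degree (χ : G → ℂ)

theorem degree_congr {H : Type u} [Group H] {χ : G → ℂ} {ψ : H → ℂ} (h : χ 1 = ψ 1) :
    H12.degree χ = H12.degree ψ := by
  unfold H12.degree; rw [h]

theorem degree_inflate (X : Subgroup G) [X.Normal] (ψ : IrrCharacter (G ⧸ X)) :
    H12.degree (inflateIrr X ψ : G → ℂ) = H12.degree (ψ : G ⧸ X → ℂ) :=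
  degree_congr (by rw [inflateIrr_apply, QuotientGroup.mk_one])

theorem exists_nonlinear_quot (X : Subgroup G) [X.Normal] (h : ¬ commutator G ≤ X) :
    ∃ β : IrrCharacter (G ⧸ X), H12.degree (β : G ⧸ X → ℂ) ≠ 1 := by
  by_contra hno
  simp only [not_exists, not_not] at hno
  apply h
  rw [commutator_def, Subgroup.commutator_le]
  intro x _ y _
  rw [← QuotientGroup.eq_one_iff, ← QuotientGroup.mk'_apply, map_commutatorElement,
    commutatorElement_eq_one_iff_mul_comm]
  exact commutative_of_all_linear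
    (fun θ => by rw [H12.irr_apply_one, hno θ, Nat.cast_one]) _ _

theorem residual_case (hnd : ND G) {p : ℕ} [Fact p.Prime]
    (hp : ∀ χ : IrrCharacter G, H12.degree (χ : G → ℂ) ≠ 1 → p ∣ H12.degree (χ : G → ℂ))
    (β : IrrCharacter (G ⧸ pResidual p G))
    (hβ : H12.degree (β : G ⧸ pResidual p G → ℂ) ≠ 1) :
    ∀ χ : IrrCharacter G, H12.degree (χ : G → ℂ) = 1 ∨
      H12.degree (χ : G → ℂ) = H12.degree (β : G ⧸ pResidual p G → ℂ) := by
  classical
  have hpp : p.Prime := Fact.out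
  have hcop0 : (Nat.card (pResidual p G)).Coprime p := H21.coprime_card_pResidual p fun χ hχ => by
    rw [← H21.degree_eq_charDegree] at hχ ⊢; exact hp χ hχ
  obtain ⟨k, hk⟩ := H5.exists_index_pResidual_eq (G := G) (p := p)
  set M := pResidual p G with hM
  haveI := Fintype.ofFinite G
  haveI := Fintype.ofFinite M
  obtain ⟨i, -, hi⟩ := (Nat.dvd_prime_pow hpp).1
    (show H12.degree (β : G ⧸ M → ℂ) ∣ p ^ k by
      haveI := Fintype.ofFinite (G ⧸ M)
      rw [← hk, Subgroup.index]; exact H12.irr_degree_dvd_card β)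
  set βG := inflateIrr M β with hβG
  have hβd : H12.degree (βG : G → ℂ) = p ^ i := (degree_inflate M β).trans hi
  have hi1 : 1 < p ^ i := by
    have h1 := H12.irr_degree_pos β
    omega
  intro χ
  by_cases hχ1 : H12.degree (χ : G → ℂ) = 1
  · exact Or.inl hχ1
  refine Or.inr ?_
  rw [hi]
  have hχpos : 1 < H12.degree (χ : G → ℂ) := by
    have := H12.irr_degree_pos χ
    omega
  obtain ⟨θ, hθ⟩ := H13.exists_constituent M (H12.isCharacter_irr χ) (H12.irr_ne_zero χ)
  obtain ⟨e, he, hed⟩ := H4.ThreeDeg.ratio_of_constituent M χ θ hθ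
  obtain ⟨b, -, hb⟩ := (Nat.dvd_prime_pow hpp).1 (hk ▸ hed)
  subst hb
  set m := H12.degree (θ : M → ℂ) with hm
  have hmp : m.Coprime p := Nat.Coprime.coprime_dvd_left (H12.irr_degree_dvd_card θ) hcop0
  by_cases hm1 : m = 1
  · rw [hm1, mul_one] at he
    rcases le_or_gt i b with hib | hib
    · have := hnd βG χ (hβd ▸ hi1) (by rw [hβd, he]; exact pow_dvd_pow p hib)
      rwa [hβd] at this
    · have := hnd χ βG hχpos (by rw [hβd, he]; exact pow_dvd_pow p hib.le)
      rw [hβd] at this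
      exact this.symm
  exfalso
  have hmpos : 1 < m := by
    have := H12.irr_degree_pos θ
    omega
  have hbi : b < i := by
    by_contra hle
    have h1 := hnd βG χ (hβd ▸ hi1)
      (by rw [hβd, he]; exact dvd_mul_of_dvd_left (pow_dvd_pow p (not_lt.1 hle)) m)
    rw [hβd, he] at h1
    exact hm1 (Nat.eq_one_of_dvd_coprimes (Nat.Coprime.pow_right i hmp) dvd_rfl (h1 ▸ dvd_mul_left m _))
  set T := inertia M (θ : M → ℂ) with hT
  haveI := Fintype.ofFinite T
  have hMT : M ≤ T := le_inertia M (H12.irr_isClassFunction θ)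
  let M' := M.subgroupOf T
  haveI := Fintype.ofFinite M'
  haveI := Fintype.ofFinite (T ⧸ M')
  let ι := Subgroup.subgroupOfEquivOfLe hMT
  obtain ⟨σ, hσ, hres⟩ := H15.extends_of_coprime (T := T) M' (θ := (θ : M → ℂ) ∘ ι)
    (isIrrCharacter_comp_equiv ι θ.2)
    (fun t => funext fun n => congrFun ((mem_inertia M).1 t.2) (ι n)) (by
      rw [Nat.card_congr ι.toEquiv]
      exact (Nat.Coprime.pow_right k hcop0).coprime_dvd_right
        (hk ▸ Subgroup.relIndex_dvd_index_of_normal M T))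
  have hresT : resTo hMT σ = (θ : M → ℂ) := funext fun y => by
    exact congrFun hres ⟨⟨y, hMT y.2⟩, Subgroup.mem_subgroupOf.2 y.2⟩
  have hσc := H12.isCharacter_of_isIrrCharacter hσ
  have hTdeg : ∀ γ : IrrCharacter (T ⧸ M'), ∃ χ' : IrrCharacter G,
      H12.degree (χ' : G → ℂ) = T.index * (H12.degree (γ : T ⧸ M' → ℂ) * m) := by
    intro γ
    have hirr := gallagher_isIrr M' hσc (hres ▸ isIrrCharacter_comp_equiv ι θ.2) γ
    have hres' : resTo hMT ((inflateIrr M' γ : T → ℂ) * σ) =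
        (H12.degree (γ : T ⧸ M' → ℂ) : ℂ) • (θ : M → ℂ) := funext fun y => by
      have hy : (⟨y, hMT y.2⟩ : T) ∈ M' := Subgroup.mem_subgroupOf.2 y.2
      rw [resTo_apply, Pi.mul_apply, inflateIrr_kernel M' γ hy, inflateIrr_apply,
        QuotientGroup.mk_one, H12.irr_apply_one, ← hresT]
      rfl
    have hne : classInner (resTo hMT ((inflateIrr M' γ : T → ℂ) * σ)) (θ : M → ℂ) ≠ 0 := by
      rw [hres', H12.classInner_smul_left, H12.classInner_irr_self, mul_one]
      exact Nat.cast_ne_zero.2 (H12.irr_degree_pos γ).ne'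
    obtain ⟨h1, -⟩ := clifford_correspondence M θ.2 hT hMT hirr hne
    refine ⟨⟨_, h1⟩, ?_⟩
    have h2 := H12.irr_apply_one (⟨_, h1⟩ : IrrCharacter G)
    have h3 := congrFun hres' 1
    rw [Pi.smul_apply, H12.irr_apply_one, smul_eq_mul] at h3
    simp only [indFun_apply_one] at h2
    rw [show ((inflateIrr M' γ : T → ℂ) * σ) 1 =
      resTo hMT ((inflateIrr M' γ : T → ℂ) * σ) 1 from rfl, h3] at h2
    exact_mod_cast h2.symm
  obtain ⟨χ₀, hχ₀⟩ := hTdeg (H12.oneIrr (T ⧸ M'))
  have hone : H12.degree (H12.oneIrr (T ⧸ M') : T ⧸ M' → ℂ) = 1 := by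
    unfold H12.degree; rw [H12.oneIrr_apply]; simp
  rw [hone, one_mul] at hχ₀
  have hTidx0 : 0 < T.index := Nat.pos_of_ne_zero Subgroup.index_ne_zero_of_finite
  have hχ₀1 : 1 < H12.degree (χ₀ : G → ℂ) := by
    rw [hχ₀]
    exact lt_of_lt_of_le hmpos (Nat.le_mul_of_pos_left m hTidx0)
  have hlin : ∀ γ : IrrCharacter (T ⧸ M'), (γ : T ⧸ M' → ℂ) 1 = 1 := by
    intro γ
    obtain ⟨χ', hχ'⟩ := hTdeg γ
    have h1 := hnd χ₀ χ' hχ₀1 (by rw [hχ₀, hχ']; exact mul_dvd_mul_left _ (dvd_mul_left m _))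
    rw [hχ₀, hχ'] at h1
    rw [H12.irr_apply_one, Nat.eq_of_mul_eq_mul_right (show 0 < m by omega)
      ((Nat.eq_of_mul_eq_mul_left hTidx0 h1).trans (one_mul m).symm), Nat.cast_one]
  -- the index of the inertia group is the ratio
  obtain ⟨c, -, hc⟩ := (Nat.dvd_prime_pow hpp).1 (hk ▸ Subgroup.index_dvd_of_le hMT)
  have hcb : p ^ c = p ^ b := by
    refine Nat.eq_of_mul_eq_mul_right (show 0 < m by omega) ?_
    rw [← hc, ← he, ← hχ₀]
    rcases le_total c b with hcb | hcb
    · exact (hnd χ₀ χ hχ₀1 (by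
        rw [hχ₀, he, hc]; exact Nat.mul_dvd_mul_right (pow_dvd_pow p hcb) m)).symm
    · exact hnd χ χ₀ hχpos (by
        rw [hχ₀, he, hc]; exact Nat.mul_dvd_mul_right (pow_dvd_pow p hcb) m)
  let A := T.map (QuotientGroup.mk' M)
  have hAab : ∀ x ∈ A, ∀ y ∈ A, x * y = y * x := by
    rintro _ ⟨x, hx, rfl⟩ _ ⟨y, hy, rfl⟩
    have h1 := commutative_of_all_linear hlin ((⟨x, hx⟩ : T) : T ⧸ M') ((⟨y, hy⟩ : T) : T ⧸ M')
    rw [← QuotientGroup.mk_mul, ← QuotientGroup.mk_mul, QuotientGroup.eq] at h1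
    rw [← map_mul, ← map_mul, QuotientGroup.mk'_apply, QuotientGroup.mk'_apply, QuotientGroup.eq]
    exact h1
  have h2 := H24.charDegree_le_index β A hAab
  rw [← H21.degree_eq_charDegree, hi,
    Subgroup.index_map_eq _ (QuotientGroup.mk'_surjective M) (by rw [QuotientGroup.ker_mk']; exact hMT),
    hc, hcb] at h2
  exact absurd h2 (not_le.2 (Nat.pow_lt_pow_right hpp.one_lt hbi))

end H4.NoDiv
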