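import Cfsg.Agent.H4.ThreeDegrees.Frobenius
import Cfsg.Agent.H2.FPFSubgroup
import Cfsg.Agent.H13.Linear

/-!
Frobenius sections of solvable groups whose prime residual quotients are abelian.
-/

set_option autoImplicit false
set_option linter.style.haveILetI false
set_option linter.unusedSectionVars false

open Cfsg H13
open scoped commutatorElement

namespace H4.NoDiv

universe u

variable {H : Type u} [Group H] [Finite H]

/-- A Frobenius section `N / K` at the bottom of the first nonabelian quotient. -/
structure FrobSection (N K : Subgroup H) (q : ℕ) : Prop where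
  nN : N.Normal
  nK : K.Normal
  gen : N = K ⊔ commutator H
  prime : q.Prime
  pow : ∀ n ∈ N, n ^ q ∈ K
  comm : ∀ x ∈ N, ∀ y ∈ N, ⁅x, y⁆ ∈ K
  fpf : ∀ g : H, g ∉ N → ∀ n ∈ N, ⁅g, n⁆ ∈ K → n ∈ K
  qidx : ¬ q ∣ N.index
  ne : K ≠ N
  idx : N.index ≠ 1
  uniq : ∀ X : Subgroup H, X.Normal → K ≤ X → ¬ commutator H ≤ X → X = K

theorem exists_section [Group.IsSolvable H] (hnab : commutator H ≠ ⊥)
    (hres : ∀ p : ℕ, p.Prime → commutator H ≤ pResidual p H) :
    ∃ (N K : Subgroup H) (q : ℕ), FrobSection N K q := by
  classical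
  have h21 : ¬ derivedSeries H 1 ≤ derivedSeries H 2 := by
    rw [derivedSeries_succ H 1, derivedSeries_one]
    exact (Group.IsSolvable.commutator_lt_of_ne_bot hnab).not_ge
  obtain ⟨K, ⟨hKn, hK2, hK1⟩, hKmax⟩ := Set.Finite.exists_maximal
    (s := {K : Subgroup H | K.Normal ∧ derivedSeries H 2 ≤ K ∧ ¬ derivedSeries H 1 ≤ K})
    (Set.toFinite _) ⟨derivedSeries H 2, inferInstance, le_rfl, h21⟩
  haveI := hKn
  have hU : ∀ X : Subgroup H, X.Normal → K ≤ X → ¬ commutator H ≤ X → X = K :=
    fun X hXn hKX hX => le_antisymm (hKmax (y := X)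
      ⟨hXn, hK2.trans hKX, by rwa [derivedSeries_one]⟩ hKX) hKX
  rw [derivedSeries_one] at hK1
  have hmap : (commutator H).map (QuotientGroup.mk' K) = commutator (H ⧸ K) := by
    rw [← derivedSeries_one, ← derivedSeries_one]
    exact map_derivedSeries_eq (QuotientGroup.mk'_surjective K) 1
  have hD : commutator (H ⧸ K) ≠ ⊥ := by
    rw [← hmap, ne_eq, Subgroup.map_eq_bot_iff, QuotientGroup.ker_mk']
    exact hK1
  have hDab : ∀ x ∈ commutator (H ⧸ K), ∀ y ∈ commutator (H ⧸ K), x * y = y * x := by
    rw [← hmap]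
    rintro _ ⟨x, hx, rfl⟩ _ ⟨y, hy, rfl⟩
    rw [← commutatorElement_eq_one_iff_mul_comm, ← map_commutatorElement]
    refine (QuotientGroup.eq_one_iff _).2 (hK2 ?_)
    rw [derivedSeries_succ, derivedSeries_one]
    exact Subgroup.commutator_mem_commutator hx hy
  have huniq : ∀ X : Subgroup (H ⧸ K), X.Normal → X ≠ ⊥ → commutator (H ⧸ K) ≤ X := by
    intro X hXn hX
    rw [← hmap, Subgroup.map_le_iff_le_comap]
    by_contra hle
    have hKX : K ≤ X.comap (QuotientGroup.mk' K) := fun x hx => by
      rw [Subgroup.mem_comap, QuotientGroup.mk'_apply, (QuotientGroup.eq_one_iff x).2 hx]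
      exact one_mem _
    apply hX
    rw [← Subgroup.map_comap_eq_self_of_surjective (QuotientGroup.mk'_surjective K) X,
      hU _ (hXn.comap _) hKX hle, QuotientGroup.map_mk'_self]
  obtain ⟨q, hq, hpow, hfpf, hqidx⟩ := H4.ThreeDeg.min_nonabelian hD huniq hDab fun p hp => by
    rw [← hmap]
    exact (Subgroup.map_mono (hres p hp)).trans (H5.pResidual_map_le _)
  refine ⟨(commutator (H ⧸ K)).comap (QuotientGroup.mk' K), K, q,
    { nN := inferInstance
      nK := hKn
      gen := by
        rw [← hmap, Subgroup.comap_map_eq, QuotientGroup.ker_mk', sup_comm]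
      prime := hq
      pow := fun x hx => (QuotientGroup.eq_one_iff _).1 (by rw [QuotientGroup.mk_pow]; exact hpow _ hx)
      comm := fun x hx y hy => by
        rw [← QuotientGroup.eq_one_iff, ← QuotientGroup.mk'_apply, map_commutatorElement,
          commutatorElement_eq_one_iff_mul_comm]
        exact hDab _ hx _ hy
      fpf := fun g hg x hx hgx => by
        refine (QuotientGroup.eq_one_iff _).1 (hfpf _ hg _ hx ?_)
        rw [← commutatorElement_eq_one_iff_mul_comm]
        show ⁅QuotientGroup.mk' K g, QuotientGroup.mk' K x⁆ = 1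
        rw [← map_commutatorElement]
        exact (QuotientGroup.eq_one_iff _).2 hgx
      qidx := by rwa [Subgroup.index_comap_of_surjective _ (QuotientGroup.mk'_surjective K)]
      ne := fun e => hK1 (by
        rw [e, ← hmap]
        exact Subgroup.le_comap_map _ _)
      idx := fun h1 => by
        rw [Subgroup.index_comap_of_surjective _ (QuotientGroup.mk'_surjective K),
          Subgroup.index_eq_one] at h1
        apply hD
        rw [commutator_def, Subgroup.commutator_eq_bot_iff_le_centralizer]
        intro x _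
        rw [Subgroup.mem_centralizer_iff]
        intro y _
        exact hDab y (h1 ▸ Subgroup.mem_top y) x (h1 ▸ Subgroup.mem_top x)
      uniq := hU }⟩

theorem FrobSection.le {N K : Subgroup H} {q : ℕ} (hF : FrobSection N K q) : K ≤ N :=
  le_sup_left.trans hF.gen.ge

theorem FrobSection.der_le {N K : Subgroup H} {q : ℕ} (hF : FrobSection N K q) :
    commutator H ≤ N :=
  le_sup_right.trans hF.gen.ge

theorem FrobSection.not_der_le {N K : Subgroup H} {q : ℕ} (hF : FrobSection N K q) :
    ¬ commutator H ≤ K := fun h => hF.ne (by rw [hF.gen, sup_eq_left.2 h])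

/-- The top of the section is cyclic. -/
theorem FrobSection.cyclic {N K : Subgroup H} {q : ℕ} [N.Normal] [K.Normal]
    (hF : FrobSection N K q) : IsCyclic (H ⧸ N) := by
  classical
  let π := QuotientGroup.mk' K
  let M := N.map π
  haveI : M.Normal := Subgroup.Normal.map inferInstance π (QuotientGroup.mk'_surjective K)
  have hMab : ∀ a ∈ M, ∀ b ∈ M, a * b = b * a := by
    rintro _ ⟨x, hx, rfl⟩ _ ⟨y, hy, rfl⟩
    rw [← commutatorElement_eq_one_iff_mul_comm, ← map_commutatorElement]
    exact (QuotientGroup.eq_one_iff _).2 (hF.comm x hx y hy)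
  let φ₀ : H →* MulAut M := (MulAut.conjNormal (H := M)).comp π
  have hker : N ≤ φ₀.ker := fun n hn => by
    rw [MonoidHom.mem_ker]
    refine MulEquiv.ext fun m => Subtype.ext ?_
    rw [MonoidHom.comp_apply, MulAut.conjNormal_apply, MulAut.one_apply,
      hMab _ (Subgroup.mem_map_of_mem π hn) _ m.2, mul_inv_cancel_right]
  let φ : H ⧸ N →* MulAut M := QuotientGroup.lift N φ₀ hker
  letI : CommGroup M := { (inferInstance : Group M) with
    mul_comm := fun a b => Subtype.ext (hMab _ a.2 _ b.2) }
  letI : MulDistribMulAction (H ⧸ N) M := MulDistribMulAction.compHom M φ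
  haveI : Nontrivial M := by
    rw [Subgroup.nontrivial_iff_ne_bot, ne_eq, Subgroup.map_eq_bot_iff, QuotientGroup.ker_mk']
    exact fun h => hF.ne (le_antisymm hF.le h)
  refine H2.isCyclic_of_fpf_comm (M := M) (fun f => ?_) (fun a b => ?_)
  · induction f using QuotientGroup.induction_on with
    | H g =>
    intro hg m hm
    obtain ⟨x, hx, hxm⟩ := m.2
    have h1 : π g * (m : H ⧸ K) * (π g)⁻¹ = m := by
      have h2 := congrArg Subtype.val hm
      rwa [show ((g : H ⧸ N) • m) = φ₀ g m from rfl, MonoidHom.comp_apply,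
        MulAut.conjNormal_apply] at h2
    have h3 : ⁅g, x⁆ ∈ K := by
      rw [← QuotientGroup.eq_one_iff, ← QuotientGroup.mk'_apply, map_commutatorElement,
        commutatorElement_def, hxm, h1, mul_inv_cancel]
    refine Subtype.ext ?_
    rw [← hxm]
    exact (QuotientGroup.eq_one_iff x).2
      (hF.fpf g (fun h => hg ((QuotientGroup.eq_one_iff g).2 h)) x hx h3)
  · induction a using QuotientGroup.induction_on with
    | H x =>
    induction b using QuotientGroup.induction_on with
    | H y =>
    rw [← commutatorElement_eq_one_iff_mul_comm, ← QuotientGroup.mk'_apply, ← QuotientGroup.mk'_apply,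
      ← map_commutatorElement, QuotientGroup.mk'_apply, QuotientGroup.eq_one_iff]
    exact hF.der_le (by
      rw [commutator_def]
      exact Subgroup.commutator_mem_commutator (Subgroup.mem_top _) (Subgroup.mem_top _))

/-- Linear characters separate the points of an abelian quotient. -/
theorem mem_of_linear {Y : Subgroup H} [Y.Normal] (hY : ∀ a b : H, ⁅a, b⁆ ∈ Y) {x : H}
    (hx : ∀ μ : H →* ℂˣ, (∀ y ∈ Y, μ y = 1) → μ x = 1) : x ∈ Y := by
  have h1 : (QuotientGroup.mk x : H ⧸ Y) = 1 := by
    refine H4.ThreeDeg.eq_one_of_kills fun χ => ?_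
    haveI := Fintype.ofFinite (H ⧸ Y)
    have hc : ∀ a b : H ⧸ Y, a * b = b * a := by
      intro a b
      induction a using QuotientGroup.induction_on with
      | H x =>
      induction b using QuotientGroup.induction_on with
      | H y =>
      rw [← commutatorElement_eq_one_iff_mul_comm, ← QuotientGroup.mk'_apply,
        ← QuotientGroup.mk'_apply, ← map_commutatorElement]
      exact (QuotientGroup.eq_one_iff _).2 (hY x y)
    have h1 : (χ : H ⧸ Y → ℂ) 1 = 1 := H13.degree_one_of_commutative (G := H ⧸ Y) hc χ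
    obtain ⟨g, hg⟩ := H12.exists_monoidHom_of_apply_one_eq_one (H12.isCharacter_irr χ) h1
    rw [← hg]
    simp only [map_one, Units.val_one]
    rw [show g (QuotientGroup.mk x) = (g.comp (QuotientGroup.mk' Y)) x from rfl,
      hx _ fun y hy => by
        rw [MonoidHom.comp_apply, QuotientGroup.mk'_apply, (QuotientGroup.eq_one_iff y).2 hy,
          map_one], Units.val_one]
  exact (QuotientGroup.eq_one_iff x).1 h1

end H4.NoDiv
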