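import Cfsg.Agent.H4.NoDiv.Kernel
import Cfsg.Agent.H4.NoDiv.Section
import Cfsg.Agent.H4.NoDiv.Residual
import Cfsg.Agent.S0169
import Cfsg.Prelude.Def_DegreeGraph

/-!
No divisibility and a disconnected degree graph: exactly three degrees.
-/

set_option autoImplicit false
set_option linter.style.haveILetI false
set_option linter.unusedSectionVars false

open Cfsg H13
open scoped commutatorElement

namespace H4.NoDiv

universe u

variable {G : Type u} [Group G] [Finite G]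

theorem degree_one_of_derived_bot (hc : commutator G = ⊥) (χ : IrrCharacter G) :
    H12.degree (χ : G → ℂ) = 1 :=
  H4.ThreeDeg.degree_one_of_kills χ fun g hg => by
    rw [hc, Subgroup.mem_bot] at hg
    rw [hg]

theorem degree_dvd_index (A : Subgroup G) [A.Normal] (hA : ∀ a ∈ A, ∀ b ∈ A, a * b = b * a)
    (χ : IrrCharacter G) : H12.degree (χ : G → ℂ) ∣ A.index := by
  obtain ⟨n, ρ, hρ, h⟩ := χ.2
  haveI := hρ
  rw [← h, H12.degree_character]
  exact Cfsg.Agent.S0169.result ρ A hA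

theorem degree_one_irr (X : Type u) [Group X] [Finite X] :
    H12.degree (H12.oneIrr X : X → ℂ) = 1 := by
  unfold H12.degree; rw [H12.oneIrr_apply]; simp

/-- The kernel has a single nonlinear degree. -/
theorem kernel_case [Group.IsSolvable G] {N K : Subgroup G} [N.Normal] [K.Normal] {q : ℕ}
    (hF : FrobSection N K q) (hndN : ND N)
    (hqdeg : ∀ ψ : IrrCharacter N, H12.degree (ψ : N → ℂ) ≠ 1 → q ∣ H12.degree (ψ : N → ℂ))
    (hinv : ∀ ψ : IrrCharacter N, H12.degree (ψ : N → ℂ) ≠ 1 → ∀ g : G,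
      twist N g (ψ : N → ℂ) = (ψ : N → ℂ))
    (hcopf : ∀ ψ : IrrCharacter N, H12.degree (ψ : N → ℂ) ≠ 1 →
      (H12.degree (ψ : N → ℂ)).Coprime N.index) :
    ∀ ψ ψ' : IrrCharacter N, H12.degree (ψ : N → ℂ) ≠ 1 → H12.degree (ψ' : N → ℂ) ≠ 1 →
      H12.degree (ψ : N → ℂ) = H12.degree (ψ' : N → ℂ) := by
  classical
  intro ψ₁ ψ₂ hψ₁ hψ₂
  have hnab : commutator N ≠ ⊥ := fun h0 => hψ₁ (degree_one_of_derived_bot h0 ψ₁)
  haveI := Fintype.ofFinite N
  by_cases hres : ∀ p : ℕ, p.Prime → commutator N ≤ pResidual p N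
  swap
  · simp only [not_forall, exists_prop] at hres
    obtain ⟨p, hp, hnle⟩ := hres
    haveI := Fact.mk hp
    obtain ⟨β, hβ⟩ := exists_nonlinear_quot _ hnle
    have hqp : q = p := by
      obtain ⟨k, hk⟩ := H5.exists_index_pResidual_eq (G := N) (p := p)
      haveI := Fintype.ofFinite (N ⧸ pResidual p N)
      have h1 : q ∣ p ^ k := by
        rw [← hk, Subgroup.index]
        refine dvd_trans ?_ (H12.irr_degree_dvd_card β)
        rw [← degree_inflate]
        exact hqdeg _ (by rwa [degree_inflate])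
      exact (Nat.prime_dvd_prime_iff_eq hF.prime hp).1 (hF.prime.dvd_of_dvd_pow h1)
    subst hqp
    have h := residual_case hndN hqdeg β hβ
    rw [(h ψ₁).resolve_left hψ₁, (h ψ₂).resolve_left hψ₂]
  obtain ⟨N₂, K₂, s, hF₂⟩ := exists_section hnab hres
  haveI := hF₂.nN
  haveI := hF₂.nK
  obtain ⟨θ, hθ⟩ := H4.ThreeDeg.exists_free_degree N₂ K₂ hF₂.le hF₂.ne hF₂.prime hF₂.pow hF₂.comm
    hF₂.fpf (H12.oneIrr N₂) (by rw [degree_one_irr]; exact hF₂.prime.not_dvd_one)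
  rw [degree_one_irr, mul_one] at hθ
  set c := N₂.index with hc
  have hθ1 : H12.degree (θ : N → ℂ) ≠ 1 := hθ ▸ hF₂.idx
  -- a character with kernel `K₂`
  obtain ⟨β, hβ⟩ := exists_nonlinear_quot K₂ hF₂.not_der_le
  set ψ₀ := inflateIrr K₂ β with hψ₀
  have hψ₀1 : H12.degree (ψ₀ : N → ℂ) ≠ 1 := by rw [hψ₀, degree_inflate]; exact hβ
  have hker : ∀ x : N, (ψ₀ : N → ℂ) x = (ψ₀ : N → ℂ) 1 → x ∈ K₂ := by
    obtain ⟨m, ρ, hρ, hρχ⟩ := ψ₀.2
    have hiff : ∀ x : N, x ∈ MonoidHom.ker ρ ↔ (ψ₀ : N → ℂ) x = (ψ₀ : N → ℂ) 1 := by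
      intro x
      rw [MonoidHom.mem_ker, ← hρχ, Representation.char_one, H12.character_eq_finrank_iff]
      rfl
    have hX := hF₂.uniq (MonoidHom.ker ρ) (MonoidHom.normal_ker ρ)
      (fun x hx => (hiff x).2 (inflateIrr_kernel K₂ β hx))
      (fun hle => hψ₀1 (H4.ThreeDeg.degree_one_of_kills ψ₀ fun x hx => (hiff x).1 (hle hx)))
    exact fun x hx => hX ▸ (hiff x).2 hx
  set K₂' := K₂.map N.subtype with hK₂'
  haveI hK₂n : K₂'.Normal := ⟨by
    rintro _ ⟨x, hx, rfl⟩ g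
    refine ⟨⟨g * (x : G) * g⁻¹, Subgroup.Normal.conj_mem inferInstance _ x.2 g⟩, hker _ ?_, rfl⟩
    have h1 := congrFun (hinv ψ₀ hψ₀1 g) x
    rw [twist_apply] at h1
    exact h1.trans (inflateIrr_kernel K₂ β hx)⟩
  haveI : (⁅N, N⁆ : Subgroup G).Normal := Subgroup.commutator_normal N N
  set L := N₂.map N.subtype with hL
  have hLeq : L = K₂' ⊔ ⁅N, N⁆ := by
    rw [hL, hK₂', hF₂.gen, Subgroup.map_sup, Subgroup.map_subtype_commutator]
  haveI : L.Normal := hLeq ▸ inferInstance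
  have hLN : L ≤ N := Subgroup.map_subtype_le N₂
  have hLsub : L.subgroupOf N = N₂ := Subgroup.comap_map_eq_self_of_injective N.subtype_injective N₂
  have hrel : L.relIndex N = c := by
    show (L.subgroupOf N).index = N₂.index
    rw [hLsub]
  have hcyc : IsCyclic (N ⧸ L.subgroupOf N) := by
    haveI := hF₂.cyclic
    exact isCyclic_of_surjective (QuotientGroup.quotientMulEquivOfEq hLsub.symm).toMonoidHom
      (QuotientGroup.quotientMulEquivOfEq hLsub.symm).surjective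
  -- the section of `N` lies in the kernel of the one of `G`
  haveI := hF.cyclic
  obtain ⟨gen, hgen⟩ := IsCyclic.exists_monoid_generator (α := G ⧸ N)
  obtain ⟨h₀, rfl⟩ := QuotientGroup.mk_surjective gen
  set f := N.index with hf
  have hf1 : 1 < f := lt_of_le_of_ne
    (Nat.pos_of_ne_zero Subgroup.index_ne_zero_of_finite) (Ne.symm hF.idx)
  have hg0 : ∃ g : G, g ∉ N := by
    by_contra hall
    simp only [not_exists, not_not] at hall
    exact hF.idx (Subgroup.index_eq_one.2 (eq_top_iff.2 fun g _ => hall g))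
  have hK₂K : ∀ x ∈ K₂', x ∈ K := by
    rintro _ ⟨x, hx, rfl⟩
    obtain ⟨g, hg⟩ := hg0
    refine hF.fpf g hg _ x.2 ?_
    have hmem : g * (x : G) * g⁻¹ * (x : G)⁻¹ ∈ N :=
      N.mul_mem (Subgroup.Normal.conj_mem inferInstance _ x.2 g) (N.inv_mem x.2)
    have h2 := mem_of_linear (H := N) (Y := K.subgroupOf N) (fun a b =>
      Subgroup.mem_subgroupOf.2 (by
        rw [← Subgroup.subtype_apply, map_commutatorElement]; exact hF.comm _ a.2 _ b.2))
      (x := ⟨g * (x : G) * g⁻¹ * (x : G)⁻¹, hmem⟩) (fun μ _ => by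
        have h1 := congrFun (hinv (H12.InvConst.mulHom μ ψ₀)
          (by rw [mulHom_degree]; exact hψ₀1) g) x
        rw [twist_apply, H12.InvConst.mulHom_apply, H12.InvConst.mulHom_apply] at h1
        have h3 := congrFun (hinv ψ₀ hψ₀1 g) x
        rw [twist_apply] at h3
        rw [h3, show (ψ₀ : N → ℂ) x = (ψ₀ : N → ℂ) 1 from inflateIrr_kernel K₂ β hx] at h1
        have h4 : μ ⟨g * (x : G) * g⁻¹, Subgroup.Normal.conj_mem inferInstance _ x.2 g⟩ = μ x :=
          Units.ext (mul_right_cancel₀ (H12.irr_apply_one_ne_zero ψ₀) h1)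
        rw [show (⟨g * (x : G) * g⁻¹ * (x : G)⁻¹, hmem⟩ : N) =
          ⟨g * (x : G) * g⁻¹, Subgroup.Normal.conj_mem inferInstance _ x.2 g⟩ * x⁻¹ from rfl,
          map_mul, map_inv, h4, mul_inv_cancel])
    rw [commutatorElement_def]
    exact Subgroup.mem_subgroupOf.1 h2
  have hLK : L ≤ K := by
    rw [hLeq]
    exact sup_le hK₂K (Subgroup.commutator_le.2 hF.comm)
  -- the generator
  have hcpos : 0 < c := Nat.pos_of_ne_zero Subgroup.index_ne_zero_of_finite
  have hcf : c.Coprime f := hθ ▸ hcopf θ hθ1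
  obtain ⟨u, -, hu⟩ := Nat.exists_mul_mod_eq_one_of_coprime hcf hf1
  set h := h₀ ^ (c * u) with hh
  have hh0 : (QuotientGroup.mk h : G ⧸ N) = QuotientGroup.mk h₀ := by
    rw [hh, QuotientGroup.mk_pow, ← Nat.div_add_mod (c * u) f, hu, pow_succ, pow_mul,
      ← QuotientGroup.mk_pow, (QuotientGroup.eq_one_iff _).2 (Subgroup.pow_index_mem N h₀),
      one_pow, one_mul]
  have hgen' : ∀ g : G, ∃ i : ℕ, (h ^ i)⁻¹ * g ∈ N := fun g => by
    obtain ⟨i, hi⟩ := Submonoid.mem_powers_iff _ _ |>.1 (hgen (QuotientGroup.mk g))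
    refine ⟨i, QuotientGroup.eq.1 ?_⟩
    rw [QuotientGroup.mk_pow, hh0, hi]
  have hhN : h ∉ N := fun hmem => by
    obtain ⟨g, hg⟩ := hg0
    obtain ⟨i, hi⟩ := hgen' g
    exact hg (by simpa using N.mul_mem (N.pow_mem hmem i) hi)
  have hmoved : ∃ n ∈ N, ⁅h, n⁆ ∉ L := by
    by_contra hall
    simp only [not_exists, not_and, not_not] at hall
    exact hF.ne (le_antisymm hF.le fun n hn => hF.fpf h hhN n hn (hLK (hall n hn)))
  have hhf : h ^ f ∈ L := by
    have h1 := Subgroup.pow_index_mem N₂ (⟨h₀ ^ f, Subgroup.pow_index_mem N h₀⟩ : N)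
    have h2 : (h₀ ^ f) ^ c ∈ L := ⟨_, h1, rfl⟩
    rw [hh, ← pow_mul, show c * u * f = f * c * u by ring, pow_mul, pow_mul]
    exact L.pow_mem h2 u
  have hS : Setup N L h f :=
    { le := hLN
      cyc := hcyc
      gen := hgen'
      hpow := hhf
      cop := hrel.symm ▸ hcf.symm
      moved := hmoved
      inv := hinv
      nd := fun ψ ψ' h1 h2 => hndN ψ ψ' h1 h2
      deg := ⟨θ, by rw [hrel]; exact hθ⟩ }
  -- the moved linear character
  have hYcomm : ∀ a b : L, ⁅a, b⁆ ∈ K₂'.subgroupOf L := fun a b => by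
    rw [Subgroup.mem_subgroupOf, ← Subgroup.subtype_apply, map_commutatorElement]
    obtain ⟨a', ha', ea⟩ := a.2
    obtain ⟨b', hb', eb⟩ := b.2
    exact ⟨_, hF₂.comm a' ha' b' hb', by rw [map_commutatorElement, ea, eb]; rfl⟩
  obtain ⟨a₀, ha₀, ha₀K⟩ : ∃ a : N, a ∈ N₂ ∧ a ∉ K₂ := by
    by_contra hall
    simp only [not_exists, not_and, not_not] at hall
    exact hF₂.ne (le_antisymm hF₂.le hall)
  have ha₀L : (a₀ : G) ∈ L := ⟨a₀, ha₀, rfl⟩
  obtain ⟨lam0, hlamK, hlam1⟩ : ∃ lam : L →* ℂˣ,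
      (∀ y ∈ K₂'.subgroupOf L, lam y = 1) ∧ lam ⟨a₀, ha₀L⟩ ≠ 1 := by
    by_contra hall
    simp only [not_exists, not_and, not_not] at hall
    have := mem_of_linear hYcomm hall
    rw [Subgroup.mem_subgroupOf] at this
    obtain ⟨a', ha', e⟩ := this
    exact ha₀K (Subtype.ext e ▸ ha')
  have hlams : lam0 ^ s = 1 := MonoidHom.ext fun l => by
    show lam0 l ^ s = 1
    rw [← map_pow]
    refine hlamK _ (Subgroup.mem_subgroupOf.2 ?_)
    obtain ⟨l', hl', el⟩ := l.2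
    exact ⟨_, hF₂.pow l' hl', by rw [map_pow, el]; rfl⟩
  have hmv : ∃ z ∈ N, H21.dualAct L z lam0 ≠ lam0 := by
    by_contra hall
    simp only [not_exists, not_and, not_not] at hall
    let X : Subgroup N := (lam0.ker.map L.subtype).subgroupOf N
    have hXmem : ∀ x : N, x ∈ X ↔ ∃ hx : (x : G) ∈ L, lam0 ⟨x, hx⟩ = 1 := fun x => by
      rw [Subgroup.mem_subgroupOf]
      exact ⟨fun ⟨y, hy, e⟩ => ⟨e ▸ y.2, Eq.trans (congrArg lam0 (Subtype.ext e.symm)) hy⟩,
        fun ⟨hx, e⟩ => ⟨⟨x, hx⟩, e, rfl⟩⟩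
    have hconj : ∀ (z : N) (x : N) (hx : (x : G) ∈ L),
        lam0 ⟨(z : G) * x * (z : G)⁻¹, Subgroup.Normal.conj_mem inferInstance _ hx _⟩ =
          lam0 ⟨x, hx⟩ := fun z x hx => by
      have h1 := DFunLike.congr_fun (hall _ (N.inv_mem z.2)) (⟨x, hx⟩ : L)
      rw [H21.dualAct_apply] at h1
      exact Eq.trans (congrArg lam0 (Subtype.ext (by simp))) h1
    have hXn : X.Normal := ⟨fun x hx z => by
      obtain ⟨hxL, hx1⟩ := (hXmem x).1 hx
      exact (hXmem _).2 ⟨Subgroup.Normal.conj_mem inferInstance _ hxL _,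
        (hconj z x hxL).trans hx1⟩⟩
    have hKX : K₂ ≤ X := fun x hx => (hXmem x).2
      ⟨⟨x, hF₂.le hx, rfl⟩, hlamK _ (Subgroup.mem_subgroupOf.2 ⟨x, hx, rfl⟩)⟩
    have hXK := hF₂.uniq X hXn hKX fun hle => hlam1 (by
      obtain ⟨_, e⟩ := (hXmem a₀).1 (sup_le hKX hle (hF₂.gen ▸ ha₀))
      exact e)
    obtain ⟨z, hz⟩ : ∃ z : N, z ∉ N₂ := by
      by_contra hall'
      simp only [not_exists, not_not] at hall'
      exact hF₂.idx (Subgroup.index_eq_one.2 (eq_top_iff.2 fun g _ => hall' g))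
    refine ha₀K (hF₂.fpf z hz a₀ ha₀ (hXK ▸ (hXmem _).2 ?_))
    have hzL : (z : G) * a₀ * (z : G)⁻¹ ∈ L := Subgroup.Normal.conj_mem inferInstance _ ha₀L _
    refine ⟨L.mul_mem hzL (L.inv_mem ha₀L), ?_⟩
    show lam0 (⟨(z : G) * a₀ * (z : G)⁻¹, hzL⟩ * (⟨a₀, ha₀L⟩ : L)⁻¹) = 1
    rw [map_mul, map_inv, hconj z a₀ ha₀L, mul_inv_cancel]
  have hab := core hS hF₂.prime (hrel.symm ▸ hF₂.qidx) lam0 hlams hmv
  -- all degrees divide `c`
  have hdvd : ∀ ψ : IrrCharacter N, H12.degree (ψ : N → ℂ) ≠ 1 →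
      H12.degree (ψ : N → ℂ) = c := by
    intro ψ hψ
    have h1 := degree_dvd_index (L.subgroupOf N) (fun a ha b hb => Subtype.ext
      (commutatorElement_eq_one_iff_mul_comm.1 (Subgroup.mem_bot.1 (hab ▸
        Subgroup.commutator_mem_commutator (Subgroup.mem_subgroupOf.1 ha)
          (Subgroup.mem_subgroupOf.1 hb))))) ψ
    have hpos := H12.irr_degree_pos ψ
    have h2 := hndN ψ θ (by omega) (by rw [hθ, ← hrel]; exact h1)
    rw [hθ] at h2
    exact h2.symm
  rw [hdvd ψ₁ hψ₁, hdvd ψ₂ hψ₂]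

theorem mem_charDegrees {d : ℕ} :
    d ∈ charDegrees G ↔ ∃ χ : IrrCharacter G, H12.degree (χ : G → ℂ) = d := by
  simp only [charDegrees, Set.mem_setOf_eq, H21.degree_eq_charDegree]

theorem not_two_of_hub (r : ℕ)
    (h : ∀ u : ↥(degreePrimes G), ∀ v : ↥(degreePrimes G), (v : ℕ) = r →
      ((degreeGraph G).induce (degreePrimes G)).Reachable u v)
    (hr : (degreePrimes G).Nonempty → r ∈ degreePrimes G) :
    Nat.card ((degreeGraph G).induce (degreePrimes G)).ConnectedComponent ≠ 2 := by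
  have hsub : Subsingleton ((degreeGraph G).induce (degreePrimes G)).ConnectedComponent := by
    refine ⟨fun a b => ?_⟩
    induction a using SimpleGraph.ConnectedComponent.ind with
    | _ u =>
    induction b using SimpleGraph.ConnectedComponent.ind with
    | _ v =>
    have hm := hr ⟨u, u.2⟩
    exact SimpleGraph.ConnectedComponent.eq.2
      ((h u ⟨r, hm⟩ rfl).trans (h v ⟨r, hm⟩ rfl).symm)
  have := Finite.card_le_one_iff_subsingleton.2 hsub
  omega

theorem reach_of_dvd {d : ℕ} (hd : d ∈ charDegrees G) (u v : ↥(degreePrimes G))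
    (hu : (u : ℕ) ∣ d) (hv : (v : ℕ) ∣ d) :
    ((degreeGraph G).induce (degreePrimes G)).Reachable u v := by
  by_cases huv : u = v
  · rw [huv]
  refine SimpleGraph.Adj.reachable ⟨fun e => huv (Subtype.ext e), u.2.1, v.2.1, d, hd, ?_⟩
  exact Nat.Coprime.mul_dvd_of_dvd_of_dvd
    ((Nat.coprime_primes u.2.1 v.2.1).2 fun e => huv (Subtype.ext e)) hu hv

theorem card_three [Group.IsSolvable G]
    (hnd : ∀ a ∈ charDegrees G, ∀ b ∈ charDegrees G, 1 < a → a < b → ¬ a ∣ b)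
    (htwo : Nat.card ((degreeGraph G).induce (degreePrimes G)).ConnectedComponent = 2) :
    Nat.card ↥(charDegrees G) = 3 := by
  classical
  haveI := Fintype.ofFinite G
  have hND : ND G := by
    intro χ χ' h1 h2
    rcases eq_or_lt_of_le (Nat.le_of_dvd (H12.irr_degree_pos χ') h2) with h | h
    · exact h.symm
    · exact absurd h2 (hnd _ (mem_charDegrees.2 ⟨χ, rfl⟩) _ (mem_charDegrees.2 ⟨χ', rfl⟩) h1 h)
  -- a common prime is impossible
  have hnocommon : ∀ p : ℕ, p.Prime →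
      (∀ χ : IrrCharacter G, H12.degree (χ : G → ℂ) ≠ 1 → p ∣ H12.degree (χ : G → ℂ)) → False := by
    intro p hp hall
    refine not_two_of_hub p (fun u v hv => ?_) (fun ⟨u, hu, d, hd, hud⟩ => ?_) htwo
    · obtain ⟨hu, d, hd, hud⟩ := u.2
      obtain ⟨χ, rfl⟩ := mem_charDegrees.1 hd
      refine reach_of_dvd hd u v hud (hv ▸ hall χ ?_)
      exact fun e => hu.not_dvd_one (e ▸ hud)
    · obtain ⟨χ, rfl⟩ := mem_charDegrees.1 hd
      exact ⟨hp, _, hd, hall χ fun e => hu.not_dvd_one (e ▸ hud)⟩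
  by_cases hnab : commutator G = ⊥
  · refine (hnocommon 2 Nat.prime_two fun χ hχ => ?_).elim
    exact absurd (degree_one_of_derived_bot hnab χ) hχ
  by_cases hres : ∀ p : ℕ, p.Prime → commutator G ≤ pResidual p G
  swap
  · simp only [not_forall, exists_prop] at hres
    obtain ⟨p, hp, hnle⟩ := hres
    haveI := Fact.mk hp
    obtain ⟨β, hβ⟩ := exists_nonlinear_quot _ hnle
    refine (hnocommon p hp fun χ hχ => ?_).elim
    by_contra hpd
    set M := pResidual p G with hM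
    haveI := Fintype.ofFinite M
    haveI := Fintype.ofFinite (G ⧸ M)
    obtain ⟨k, hk⟩ := H5.exists_index_pResidual_eq (G := G) (p := p)
    rw [← hM] at hk
    obtain ⟨θ, hθ⟩ := H13.exists_constituent M (H12.isCharacter_irr χ) (H12.irr_ne_zero χ)
    obtain ⟨e, he, hed⟩ := H4.ThreeDeg.ratio_of_constituent M χ θ hθ
    have he1 : e = 1 := Nat.eq_one_of_dvd_coprimes
      (((Nat.Prime.coprime_iff_not_dvd hp).2 hpd).pow_left k) (hk ▸ hed) ⟨_, he⟩
    rw [he1, one_mul] at he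
    have hc := isCharacter_sub_irr (H12.IsCharacter.res (H12.isCharacter_irr χ) M) θ.2 hθ
    have hres : (fun n : M => (χ : G → ℂ) n) = (θ : M → ℂ) := by
      refine sub_eq_zero.1 (eq_zero_of_apply_one hc ?_)
      simp only [Pi.sub_apply, OneMemClass.coe_one, H12.irr_apply_one, he, sub_self]
    have hirr := gallagher_isIrr M (H12.isCharacter_irr χ) (hres ▸ θ.2) β
    have hdeg : H12.degree ((⟨_, hirr⟩ : IrrCharacter G) : G → ℂ) =
        H12.degree (β : G ⧸ M → ℂ) * H12.degree (χ : G → ℂ) := by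
      have h1 := H12.irr_apply_one (⟨_, hirr⟩ : IrrCharacter G)
      simp only [Pi.mul_apply, inflateIrr_apply, QuotientGroup.mk_one, H12.irr_apply_one] at h1
      exact_mod_cast h1.symm
    have hpos := H12.irr_degree_pos χ
    have h1 := hND χ ⟨_, hirr⟩ (by omega) (hdeg ▸ dvd_mul_left _ _)
    rw [hdeg] at h1
    exact hβ ((Nat.mul_eq_right (by omega)).1 h1)
  obtain ⟨N, K, q, hF⟩ := exists_section hnab hres
  haveI := hF.nN
  haveI := hF.nK
  haveI := Fintype.ofFinite N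
  set f := N.index with hf
  have hfree : ∀ ψ : IrrCharacter N, ¬ q ∣ H12.degree (ψ : N → ℂ) → ∃ χ : IrrCharacter G,
      H12.degree (χ : G → ℂ) = f * H12.degree (ψ : N → ℂ) := fun ψ hψ =>
    H4.ThreeDeg.exists_free_degree N K hF.le hF.ne hF.prime hF.pow hF.comm hF.fpf ψ hψ
  obtain ⟨χf, hχf⟩ := hfree (H12.oneIrr N) (by rw [degree_one_irr]; exact hF.prime.not_dvd_one)
  rw [degree_one_irr, mul_one] at hχf
  have hf1 : 1 < f := lt_of_le_of_ne
    (Nat.pos_of_ne_zero Subgroup.index_ne_zero_of_finite) (Ne.symm hF.idx)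
  have hqψ : ∀ ψ : IrrCharacter N, H12.degree (ψ : N → ℂ) ≠ 1 → q ∣ H12.degree (ψ : N → ℂ) := by
    intro ψ hψ
    by_contra hq
    obtain ⟨χ, hχ⟩ := hfree ψ hq
    have := hND χf χ (hχf ▸ hf1) (by rw [hχf, hχ]; exact dvd_mul_right _ _)
    rw [hχf, hχ] at this
    exact hψ ((Nat.mul_eq_left (by omega)).1 this)
  have hdich : ∀ χ : IrrCharacter G, H12.degree (χ : G → ℂ) = 1 ∨
      H12.degree (χ : G → ℂ) = f ∨ q ∣ H12.degree (χ : G → ℂ) := by
    intro χ
    obtain ⟨ψ, hψ⟩ := H13.exists_constituent N (H12.isCharacter_irr χ) (H12.irr_ne_zero χ)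
    obtain ⟨e, he, hef⟩ := H4.ThreeDeg.ratio_of_constituent N χ ψ hψ
    by_cases h1 : H12.degree (ψ : N → ℂ) = 1
    · rw [h1, mul_one] at he
      by_cases hχ : H12.degree (χ : G → ℂ) = 1
      · exact Or.inl hχ
      refine Or.inr (Or.inl ?_)
      have hpos := H12.irr_degree_pos χ
      have := hND χ χf (by omega) (by rw [hχf, he]; exact hef)
      rw [hχf] at this
      exact this.symm
    · exact Or.inr (Or.inr (he ▸ dvd_mul_of_dvd_right (hqψ ψ h1) e))
  have hcop : ∀ χ : IrrCharacter G, q ∣ H12.degree (χ : G → ℂ) →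
      (H12.degree (χ : G → ℂ)).Coprime f := by
    intro χ hqd
    by_contra hnc
    obtain ⟨r, hr, hrd, hrf⟩ := Nat.Prime.not_coprime_iff_dvd.1 hnc
    have hqmem : q ∈ degreePrimes G := ⟨hF.prime, _, mem_charDegrees.2 ⟨χ, rfl⟩, hqd⟩
    refine not_two_of_hub r (fun u v hv => ?_)
      (fun _ => ⟨hr, _, mem_charDegrees.2 ⟨χ, rfl⟩, hrd⟩) htwo
    obtain ⟨hu, d, hd, hud⟩ := u.2
    obtain ⟨χ', rfl⟩ := mem_charDegrees.1 hd
    rcases hdich χ' with h | h | h
    · exact absurd (h ▸ hud) hu.not_dvd_one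
    · exact reach_of_dvd hd u v hud (by rw [hv, h]; exact hrf)
    · exact (reach_of_dvd hd u ⟨q, hqmem⟩ hud h).trans
        (reach_of_dvd (mem_charDegrees.2 ⟨χ, rfl⟩) ⟨q, hqmem⟩ v hqd (hv ▸ hrd))
  obtain ⟨χd, hχd⟩ : ∃ χ : IrrCharacter G, q ∣ H12.degree (χ : G → ℂ) := by
    by_contra hall
    simp only [not_exists] at hall
    obtain ⟨r, hr, hrf⟩ := Nat.exists_prime_and_dvd hf1.ne'
    refine hnocommon r hr fun χ hχ => ?_
    rcases hdich χ with h | h | h
    · exact absurd h hχ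
    · rw [h]; exact hrf
    · exact absurd h (hall χ)
  -- restriction to `N`
  have hrestrict : ∀ (χ : IrrCharacter G) (ψ : IrrCharacter N),
      classInner (fun n : N => (χ : G → ℂ) n) ψ ≠ 0 → H12.degree (ψ : N → ℂ) ≠ 1 →
      (fun n : N => (χ : G → ℂ) n) = (ψ : N → ℂ) ∧
        H12.degree (χ : G → ℂ) = H12.degree (ψ : N → ℂ) := by
    intro χ ψ hψ h1
    obtain ⟨e, he, hef⟩ := H4.ThreeDeg.ratio_of_constituent N χ ψ hψ
    have he1 : e = 1 := Nat.eq_one_of_dvd_coprimes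
      (hcop χ (he ▸ dvd_mul_of_dvd_right (hqψ ψ h1) e)) ⟨_, he⟩ hef
    rw [he1, one_mul] at he
    refine ⟨?_, he⟩
    have hc := isCharacter_sub_irr (H12.IsCharacter.res (H12.isCharacter_irr χ) N) ψ.2 hψ
    refine sub_eq_zero.1 (eq_zero_of_apply_one hc ?_)
    simp only [Pi.sub_apply, OneMemClass.coe_one, H12.irr_apply_one, he, sub_self]
  have hover : ∀ ψ : IrrCharacter N, H12.degree (ψ : N → ℂ) ≠ 1 → ∃ χ : IrrCharacter G,
      (fun n : N => (χ : G → ℂ) n) = (ψ : N → ℂ) ∧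
        H12.degree (χ : G → ℂ) = H12.degree (ψ : N → ℂ) := by
    intro ψ h1
    obtain ⟨χ, hχ⟩ : ∃ χ : IrrCharacter G, classInner (indFun N (ψ : N → ℂ)) χ ≠ 0 := by
      by_contra h0
      simp only [not_exists, not_not] at h0
      have h := congrFun (H12.eq_zero_of_classInner_irr_eq_zero (indFun_isClassFunction N _) h0) 1
      rw [indFun_apply_one, Pi.zero_apply, mul_eq_zero] at h
      rcases h with h | h
      · exact Subgroup.index_ne_zero_of_finite (Nat.cast_eq_zero.1 h)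
      · exact H12.irr_apply_one_ne_zero ψ h
    exact ⟨χ, hrestrict χ ψ (fun h0 => hχ (by
      rw [classInner_indFun_left N _ (H12.irr_isClassFunction χ), ← H12.conj_classInner, h0,
        map_zero])) h1⟩
  have hinv : ∀ ψ : IrrCharacter N, H12.degree (ψ : N → ℂ) ≠ 1 → ∀ g : G,
      twist N g (ψ : N → ℂ) = (ψ : N → ℂ) := by
    intro ψ h1 g
    obtain ⟨χ, hχ, -⟩ := hover ψ h1
    funext n
    rw [twist_apply, ← congrFun hχ n]
    refine Eq.trans (congrFun hχ _).symm ?_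
    exact H12.irr_isClassFunction χ n g
  have hndN : ND N := by
    intro ψ ψ' h1 h2
    obtain ⟨χ, -, hχ⟩ := hover ψ (by omega)
    obtain ⟨χ', -, hχ'⟩ := hover ψ' fun e => absurd (Nat.le_of_dvd (by omega) (e ▸ h2)) (by omega)
    rw [← hχ, ← hχ'] at h2 ⊢
    exact hND χ χ' (hχ ▸ h1) h2
  have hone := kernel_case hF hndN hqψ hinv fun ψ h1 => by
    obtain ⟨χ, -, hχ⟩ := hover ψ h1
    exact hχ ▸ hcop χ (hχ ▸ hqψ ψ h1)
  set d := H12.degree (χd : G → ℂ) with hd
  have hd1 : d ≠ 1 := fun e => hF.prime.not_dvd_one (e ▸ hχd)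
  have hdf : d ≠ f := fun e => hF.qidx (show q ∣ f from e ▸ hχd)
  have hall : ∀ χ : IrrCharacter G, q ∣ H12.degree (χ : G → ℂ) → H12.degree (χ : G → ℂ) = d := by
    have hnl : ∀ χ : IrrCharacter G, q ∣ H12.degree (χ : G → ℂ) → ∃ ψ : IrrCharacter N,
        H12.degree (ψ : N → ℂ) ≠ 1 ∧ H12.degree (χ : G → ℂ) = H12.degree (ψ : N → ℂ) := by
      intro χ hq
      obtain ⟨ψ, hψ⟩ := H13.exists_constituent N (H12.isCharacter_irr χ) (H12.irr_ne_zero χ)
      obtain ⟨e, he, hef⟩ := H4.ThreeDeg.ratio_of_constituent N χ ψ hψ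
      have h1 : H12.degree (ψ : N → ℂ) ≠ 1 := fun h1 => hF.qidx (by
        rw [he, h1, mul_one] at hq
        exact hq.trans hef)
      exact ⟨ψ, h1, (hrestrict χ ψ hψ h1).2⟩
    intro χ hq
    obtain ⟨ψ, h1, h2⟩ := hnl χ hq
    obtain ⟨ψ', h1', h2'⟩ := hnl χd hχd
    rw [h2, hd, h2']
    exact hone ψ ψ' h1 h1'
  have hset : charDegrees G = {1, f, d} := by
    ext x
    simp only [Set.mem_insert_iff, Set.mem_singleton_iff]
    constructor
    · intro hx
      obtain ⟨χ, rfl⟩ := mem_charDegrees.1 hx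
      exact (hdich χ).imp id (fun h => h.imp id (hall χ))
    · rintro (rfl | rfl | rfl)
      · exact mem_charDegrees.2 ⟨H12.oneIrr G, degree_one_irr G⟩
      · exact mem_charDegrees.2 ⟨χf, hχf⟩
      · exact mem_charDegrees.2 ⟨χd, rfl⟩
  rw [hset, Nat.card_coe_set_eq]
  exact Set.ncard_eq_three.2 ⟨1, f, d, by omega, fun e => hd1 e.symm, fun e => hdf e.symm, rfl⟩

end H4.NoDiv
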