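import Cfsg.Agent.H4.NoDiv.Clifford
import Cfsg.Agent.H21.DegreesOneP

/-!
Invariant characters of a normal subgroup with cyclic section and no divisibility among degrees.
-/

set_option autoImplicit false
set_option linter.style.haveILetI false
set_option linter.unusedSectionVars false

open Cfsg H13
open scoped commutatorElement

namespace H4.NoDiv

universe u

variable {G : Type u} [Group G] [Finite G]

/-- `N / L` is cyclic of order `c`, `G / N` is generated by `h` of order prime to `c` modulo `L`, all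
nonlinear characters of `N` are invariant and `c` is a degree of `N` with no proper divisors or
multiples among the others. -/
structure Setup (N L : Subgroup G) [N.Normal] [L.Normal] (h : G) (f : ℕ) : Prop where
  le : L ≤ N
  cyc : IsCyclic (N ⧸ L.subgroupOf N)
  gen : ∀ g : G, ∃ i : ℕ, (h ^ i)⁻¹ * g ∈ N
  hpow : h ^ f ∈ L
  cop : f.Coprime (L.relIndex N)
  moved : ∃ n ∈ N, ⁅h, n⁆ ∉ L
  inv : ∀ ψ : IrrCharacter N, H12.degree (ψ : N → ℂ) ≠ 1 → ∀ g : G,
    twist N g (ψ : N → ℂ) = (ψ : N → ℂ)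
  nd : ∀ ψ ψ' : IrrCharacter N, 1 < H12.degree (ψ : N → ℂ) →
    H12.degree (ψ : N → ℂ) ∣ H12.degree (ψ' : N → ℂ) →
    H12.degree (ψ' : N → ℂ) = H12.degree (ψ : N → ℂ)
  deg : ∃ ψ : IrrCharacter N, H12.degree (ψ : N → ℂ) = L.relIndex N

variable {N L : Subgroup G} [N.Normal] [L.Normal] {h : G} {f : ℕ}

theorem Setup.relIndex_pos : 0 < L.relIndex N :=
  Nat.pos_of_ne_zero Subgroup.index_ne_zero_of_finite

/-- The character of `L` seen inside `N`. -/
noncomputable def inner (hS : Setup N L h f) (φ : IrrCharacter L) : IrrCharacter (L.subgroupOf N) :=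
  ⟨(φ : L → ℂ) ∘ Subgroup.subgroupOfEquivOfLe hS.le,
    isIrrCharacter_comp_equiv (Subgroup.subgroupOfEquivOfLe hS.le) φ.2⟩

theorem inner_degree (hS : Setup N L h f) (φ : IrrCharacter L) :
    H12.degree ((inner hS φ : L.subgroupOf N → ℂ)) = H12.degree (φ : L → ℂ) := by
  unfold H12.degree
  rw [show (inner hS φ : L.subgroupOf N → ℂ) 1 = (φ : L → ℂ) 1 from rfl]

theorem mem_inner_inertia (hS : Setup N L h f) (φ : IrrCharacter L) (n : N) :
    n ∈ inertia (L.subgroupOf N) ((inner hS φ : L.subgroupOf N → ℂ)) ↔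
      (n : G) ∈ inertia L (φ : L → ℂ) := by
  rw [mem_inertia, mem_inertia]
  constructor
  · intro hn
    funext y
    have := congrFun hn ((Subgroup.subgroupOfEquivOfLe hS.le).symm y)
    exact this
  · intro hn
    funext y
    exact congrFun hn (Subgroup.subgroupOfEquivOfLe hS.le y)

theorem separate (hS : Setup N L h f) {n : N} (hn : ∀ μ : N →* ℂˣ,
    (∀ y : N, (y : G) ∈ L → μ y = 1) → μ n = 1) : (n : G) ∈ L := by
  haveI := hS.cyc
  have h1 : (QuotientGroup.mk n : N ⧸ L.subgroupOf N) = 1 := by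
    refine H4.ThreeDeg.eq_one_of_kills fun χ => ?_
    letI := IsCyclic.commGroup (α := N ⧸ L.subgroupOf N)
    haveI := Fintype.ofFinite (N ⧸ L.subgroupOf N)
    have h1 : (χ : N ⧸ L.subgroupOf N → ℂ) 1 = 1 :=
      H13.degree_one_of_commutative (G := N ⧸ L.subgroupOf N) mul_comm χ
    obtain ⟨g, hg⟩ := H12.exists_monoidHom_of_apply_one_eq_one (H12.isCharacter_irr χ) h1
    rw [← hg]
    simp only [map_one, Units.val_one]
    rw [show g (QuotientGroup.mk n) = (g.comp (QuotientGroup.mk' _)) n from rfl,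
      hn _ fun y hy => by
        rw [MonoidHom.comp_apply, QuotientGroup.mk'_apply, (QuotientGroup.eq_one_iff y).2 hy,
          map_one], Units.val_one]
  exact (QuotientGroup.eq_one_iff n).1 h1

/-- Inertia in `N` is centralised by `h` modulo `L`. -/
theorem inertia_central (hS : Setup N L h f) (φ : IrrCharacter L)
    (hφ : H12.degree (φ : L → ℂ) ≠ 1 ∨ ∃ n ∈ N, n ∉ inertia L (φ : L → ℂ))
    {z : G} (hz : z ∈ N) (hzφ : z ∈ inertia L (φ : L → ℂ)) : ⁅h, z⁆ ∈ L := by
  classical
  haveI := hS.cyc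
  haveI := Fintype.ofFinite N
  haveI := Fintype.ofFinite (L.subgroupOf N)
  set Y := L.subgroupOf N with hY
  have hne : (inertia Y ((inner hS φ : Y → ℂ))).index * H12.degree ((inner hS φ : Y → ℂ)) ≠ 1 := by
    intro h1
    have h2 := Nat.eq_one_of_mul_eq_one_right h1
    have h3 := Nat.eq_one_of_mul_eq_one_left h1
    rw [inner_degree] at h3
    rcases hφ with hφ | ⟨n, hn, hnφ⟩
    · exact hφ h3
    · rw [Subgroup.index_eq_one] at h2
      exact hnφ ((mem_inner_inertia hS φ ⟨n, hn⟩).1 (h2 ▸ Subgroup.mem_top _))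
  refine separate hS (n := ⟨⁅h, z⁆, by
    simpa [commutatorElement_def] using N.mul_mem (Subgroup.Normal.conj_mem inferInstance z hz h) (N.inv_mem hz)⟩)
    fun μ hμ => ?_
  let cj : N ≃* N := MulAut.conjNormal h
  let ν : N →* ℂˣ := μ.comp cj.toMonoidHom / μ
  have hνY : ∀ y ∈ Y, ν y = 1 := fun y hy => by
    rw [MonoidHom.div_apply, MonoidHom.comp_apply, hμ y hy, div_one]
    refine hμ _ ?_
    rw [MulEquiv.coe_toMonoidHom, MulAut.conjNormal_apply]
    exact Subgroup.Normal.conj_mem inferInstance (y : G) hy h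
  have hν : ∀ ψ : IrrCharacter N, H12.degree (ψ : N → ℂ) ≠ 1 →
      ∀ x : N, (ν x : ℂ) * (ψ : N → ℂ) x = (ψ : N → ℂ) x := by
    intro ψ hψ x
    have hd : H12.degree (H12.InvConst.mulHom μ ψ : N → ℂ) = H12.degree (ψ : N → ℂ) := by
      unfold H12.degree
      rw [H12.InvConst.mulHom_apply, map_one, Units.val_one, one_mul]
    have h1 := congrFun (hS.inv _ (hd ▸ hψ) h) x
    have h2 := congrFun (hS.inv ψ hψ h) x
    rw [twist_apply, H12.InvConst.mulHom_apply, H12.InvConst.mulHom_apply] at h1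
    rw [twist_apply] at h2
    rw [h2] at h1
    rw [MonoidHom.div_apply, Units.val_div_eq_div_val, div_mul_eq_mul_div, div_eq_iff (Units.ne_zero _),
      MonoidHom.comp_apply]
    exact h1.trans (mul_comm _ _)
  have h1 := kills_inertia Y (inner hS φ) hne ν hνY hν ⟨z, hz⟩
    ((mem_inner_inertia hS φ ⟨z, hz⟩).2 hzφ)
  rw [MonoidHom.div_apply, MonoidHom.comp_apply, div_eq_one] at h1
  rw [show (⟨⁅h, z⁆, _⟩ : N) = cj ⟨z, hz⟩ * (⟨z, hz⟩ : N)⁻¹ from Subtype.ext (by
    simp [cj, commutatorElement_def]), map_mul, map_inv, ← h1]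
  exact mul_inv_cancel _

/-- The inertia group in `N` of a character of `L` whose induced degree is divisible by `c`. -/
theorem exists_degree (hS : Setup N L h f) (φ : IrrCharacter L) :
    ∃ ψ : IrrCharacter N, H12.degree (ψ : N → ℂ) =
      (inertia (L.subgroupOf N) ((inner hS φ : L.subgroupOf N → ℂ))).index *
        H12.degree (φ : L → ℂ) := by
  classical
  haveI := hS.cyc
  haveI := Fintype.ofFinite N
  haveI := Fintype.ofFinite (L.subgroupOf N)
  obtain ⟨ψ, hψ⟩ := exists_over_degree (L.subgroupOf N) (inner hS φ)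
  exact ⟨ψ, by rw [hψ, inner_degree]⟩

theorem one_lt_relIndex (hS : Setup N L h f) : 1 < L.relIndex N := by
  refine lt_of_le_of_ne (Nat.succ_le_of_lt Setup.relIndex_pos) fun h1 => ?_
  obtain ⟨n, hn, hne⟩ := hS.moved
  refine hne (Subgroup.relIndex_eq_one.1 h1.symm ?_)
  simpa [commutatorElement_def] using N.mul_mem (Subgroup.Normal.conj_mem inferInstance n hn h) (N.inv_mem hn)

/-- A nonlinear character of `L` has inertia group larger than `L` in `N`. -/
theorem exists_inertia (hS : Setup N L h f) (φ : IrrCharacter L)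
    (hφ : H12.degree (φ : L → ℂ) ≠ 1) :
    ∃ z ∈ N, z ∉ L ∧ z ∈ inertia L (φ : L → ℂ) := by
  classical
  haveI := Fintype.ofFinite N
  by_contra hcon
  simp only [not_exists, not_and] at hcon
  set T := inertia (L.subgroupOf N) ((inner hS φ : L.subgroupOf N → ℂ)) with hT
  have hTeq : T = L.subgroupOf N := le_antisymm (fun n hn => by
      by_contra hnL
      exact hcon n n.2 hnL ((mem_inner_inertia hS φ n).1 hn))
    (le_inertia _ (H12.irr_isClassFunction _))
  obtain ⟨ψ, hψ⟩ := exists_degree hS φ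
  obtain ⟨ψc, hψc⟩ := hS.deg
  rw [← hT, hTeq] at hψ
  have h1 := hS.nd ψc ψ (hψc ▸ one_lt_relIndex hS) (hψc ▸ hψ ▸ dvd_mul_right _ _)
  rw [hψ, hψc] at h1
  exact hφ ((Nat.mul_eq_left Setup.relIndex_pos.ne').1 h1)

/-- A moved linear character of `L` is fixed only by `L` in `N`. -/
theorem stab_linear (hS : Setup N L h f) (lam : L →* ℂˣ)
    (hm : ∃ n ∈ N, H21.dualAct L n lam ≠ lam) {z : G} (hz : z ∈ N)
    (hfix : H21.dualAct L z lam = lam) : z ∈ L := by
  classical
  haveI := Fintype.ofFinite N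
  set φ := H12.linIrr lam
  have hiff : ∀ g : G, g ∈ inertia L (φ : L → ℂ) ↔ H21.dualAct L g lam = lam := fun g => by
    rw [show inertia L (φ : L → ℂ) = H21.autFixer (H21.dualAct L) lam from
      (H21.autFixer_dualAct L lam).symm]
    rfl
  have hφ1 : H12.degree (φ : L → ℂ) = 1 := by
    have h1 := H12.irr_apply_one φ
    rw [show (φ : L → ℂ) 1 = ((lam 1 : ℂˣ) : ℂ) from rfl, map_one, Units.val_one] at h1
    exact_mod_cast h1.symm
  obtain ⟨ψ, hψ⟩ := exists_degree hS φ
  set T := inertia (L.subgroupOf N) ((inner hS φ : L.subgroupOf N → ℂ)) with hT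
  rw [hφ1, mul_one] at hψ
  have hT1 : T.index ≠ 1 := fun h1 => by
    obtain ⟨n, hn, hne⟩ := hm
    rw [Subgroup.index_eq_one] at h1
    exact hne ((hiff n).1 ((mem_inner_inertia hS φ ⟨n, hn⟩).1 (hT ▸ h1 ▸ Subgroup.mem_top _)))
  have hpos : 0 < T.index := Nat.pos_of_ne_zero Subgroup.index_ne_zero_of_finite
  obtain ⟨ψc, hψc⟩ := hS.deg
  have hle : L.subgroupOf N ≤ T := le_inertia _ (H12.irr_isClassFunction _)
  have h1 := hS.nd ψ ψc (hψ ▸ by omega) (hψc ▸ hψ ▸ Subgroup.index_dvd_of_le hle)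
  rw [hψ, hψc] at h1
  have h2 : T = L.subgroupOf N := (Subgroup.eq_of_le_of_card_ge hle (le_of_eq (by
    apply Nat.eq_of_mul_eq_mul_right hpos
    rw [Subgroup.card_mul_index T, ← Subgroup.card_mul_index (L.subgroupOf N)]
    rw [show (L.subgroupOf N).index = T.index from h1]))).symm
  have : (⟨z, hz⟩ : N) ∈ T := (mem_inner_inertia hS φ ⟨z, hz⟩).2 ((hiff z).2 hfix)
  rwa [h2] at this

/-- The `h`-conjugate of a moved linear character is an `N`-conjugate. -/
theorem conj_linear (hS : Setup N L h f) (lam : L →* ℂˣ)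
    (hm : ∃ n ∈ N, H21.dualAct L n lam ≠ lam) :
    ∃ w ∈ N, H21.dualAct L (h * w) lam = lam := by
  classical
  haveI := Fintype.ofFinite G
  haveI := Fintype.ofFinite N
  haveI := Fintype.ofFinite (L.subgroupOf N)
  haveI := hS.cyc
  set φ := H12.linIrr lam with hφdef
  set φ₀ := inner hS φ with hφ₀
  obtain ⟨hY, σ, ψ, hσ, hres, hψ, hdeg⟩ := exists_over_extension (L.subgroupOf N) φ₀
  have hψ1 : H12.degree (ψ : N → ℂ) ≠ 1 := by
    rw [hdeg]
    intro h1
    obtain ⟨n, hn, hne⟩ := hm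
    have h2 := Nat.eq_one_of_mul_eq_one_right h1
    rw [Subgroup.index_eq_one] at h2
    have h3 := (mem_inner_inertia hS φ ⟨n, hn⟩).1 (h2 ▸ Subgroup.mem_top _)
    rw [show inertia L (φ : L → ℂ) = H21.autFixer (H21.dualAct L) lam from
      (H21.autFixer_dualAct L lam).symm] at h3
    exact hne h3
  have hne : classInner (fun y : L.subgroupOf N => (ψ : N → ℂ) y) (φ₀ : L.subgroupOf N → ℂ) ≠ 0 := by
    haveI := Fintype.ofFinite (inertia (L.subgroupOf N) (φ₀ : L.subgroupOf N → ℂ))
    have h0 : classInner (resTo hY σ) (φ₀ : L.subgroupOf N → ℂ) ≠ 0 := by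
      rw [hres, H12.classInner_irr_self]; exact one_ne_zero
    rw [hψ, (clifford_correspondence (L.subgroupOf N) φ₀.2 rfl hY hσ h0).2]
    exact h0
  set φ' := inner hS (twistIrr L h φ) with hφ'
  have hne' : classInner (fun y : L.subgroupOf N => (ψ : N → ℂ) y) (φ' : L.subgroupOf N → ℂ) ≠ 0 := by
    let cj : L.subgroupOf N ≃* L.subgroupOf N :=
      ((Subgroup.subgroupOfEquivOfLe hS.le).trans (MulAut.conjNormal h : L ≃* L)).trans
        (Subgroup.subgroupOfEquivOfLe hS.le).symm
    have e1 : (fun y : L.subgroupOf N => (ψ : N → ℂ) y) =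
        fun y : L.subgroupOf N => (ψ : N → ℂ) (cj y : L.subgroupOf N) := funext fun y => by
      have := congrFun (hS.inv ψ hψ1 h) (y : N)
      rw [twist_apply] at this
      rw [← this]
      congr 1
    have e2 : (φ' : L.subgroupOf N → ℂ) = fun y => (φ₀ : L.subgroupOf N → ℂ) (cj y) := funext fun y => by
      rw [hφ', hφ₀]
      show (twistIrr L h φ : L → ℂ) _ = (φ : L → ℂ) _
      rw [twistIrr_apply, twist_apply]
      refine congrArg (φ : L → ℂ) (Subtype.ext ?_)
      simp [cj]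
    have e3 : classInner (fun y : L.subgroupOf N => (ψ : N → ℂ) (cj y : L.subgroupOf N))
        (fun y => (φ₀ : L.subgroupOf N → ℂ) (cj y)) =
        classInner (fun y : L.subgroupOf N => (ψ : N → ℂ) y) (φ₀ : L.subgroupOf N → ℂ) := by
      rw [H12.classInner_def, H12.classInner_def]
      congr 1
      exact Equiv.sum_comp cj.toEquiv fun y => (ψ : N → ℂ) (y : L.subgroupOf N) *
        (starRingEnd ℂ) ((φ₀ : L.subgroupOf N → ℂ) y)
    rw [e2, e1, e3]
    exact hne
  obtain ⟨w, hw⟩ : ∃ w : N, twist (L.subgroupOf N) w (φ₀ : L.subgroupOf N → ℂ) = φ' := by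
    by_contra hcon
    push Not at hcon
    exact hne' (classInner_res_eq_zero_of_not_conj (L.subgroupOf N) ψ.2 φ₀.2 φ'.2 hne hcon)
  refine ⟨(w : G)⁻¹, N.inv_mem w.2, ?_⟩
  have key : h * (w : G)⁻¹ ∈ inertia L (φ : L → ℂ) := by
    rw [mem_inertia]
    funext y
    rw [twist_apply]
    have h1 := congrFun hw ((Subgroup.subgroupOfEquivOfLe hS.le).symm
      ⟨(w : G)⁻¹ * y * w, by simpa using Subgroup.Normal.conj_mem inferInstance _ y.2 (w : G)⁻¹⟩)
    rw [twist_apply, hφ', hφ₀] at h1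
    change (φ : L → ℂ) _ = (twistIrr L h φ : L → ℂ) _ at h1
    rw [twistIrr_apply, twist_apply] at h1
    refine Eq.trans ?_ (h1.symm.trans ?_)
    · exact congrArg (φ : L → ℂ) (Subtype.ext (by simp [mul_assoc]))
    · exact congrArg (φ : L → ℂ) (Subtype.ext (by simp [mul_assoc]))
  rw [show inertia L (φ : L → ℂ) = H21.autFixer (H21.dualAct L) lam from
    (H21.autFixer_dualAct L lam).symm] at key
  exact key

end H4.NoDiv
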