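import Cfsg.Agent.H4.NoDiv.Count

/-!
No counterexample has a minimal derived kernel.
-/

set_option autoImplicit false
set_option linter.style.haveILetI false
set_option linter.unusedSectionVars false

open Cfsg H13
open scoped commutatorElement

attribute [-instance] MonoidHom.instPow MonoidHom.instInv MonoidHom.mul

namespace H4.NoDiv

universe u

variable {G : Type u} [Group G] [Finite G] {N L : Subgroup G} [N.Normal] [L.Normal] {h : G} {f : ℕ}

theorem card_dual_of_comm {X : Type u} [Group X] [Finite X] (hc : ∀ a b : X, a * b = b * a) :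
    Nat.card (X →* ℂˣ) = Nat.card X := by
  rw [H12.card_monoidHom_units]
  have : commutator X = ⊥ := by
    rw [eq_bot_iff, commutator_def, Subgroup.commutator_le]
    intro a _ b _
    exact Subgroup.mem_bot.2 (commutatorElement_eq_one_iff_mul_comm.2 (hc a b))
  rw [this, Subgroup.index_bot]

theorem core_step [Group.IsSolvable G] (hS : Setup N L h f) {s : ℕ} (hs : s.Prime)
    (hsc : ¬ s ∣ L.relIndex N) (lam0 : L →* ℂˣ) (hlam : lam0 ^ s = 1)
    (hmv : ∃ n ∈ N, H21.dualAct L n lam0 ≠ lam0)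
    (hred : ∀ X : Subgroup G, X.Normal → X ≤ L → X ≠ ⊥ →
      (∀ x : L, (x : G) ∈ X → lam0 x = 1) → ⁅L, L⁆ ≤ X) :
    ⁅L, L⁆ = ⊥ := by
  classical
  by_contra hne
  haveI := Fintype.ofFinite L
  haveI := finite_linear L
  set M := ⁅L, L⁆ with hM
  haveI hMn : M.Normal := Subgroup.commutator_normal L L
  have hML : M ≤ L := Subgroup.commutator_le_self L
  have hMcom : ∀ x : L, (x : G) ∈ M ↔ x ∈ commutator L := fun x => by
    rw [hM, ← Subgroup.map_subtype_commutator]
    exact ⟨fun ⟨z, hz, e⟩ => Subtype.ext e ▸ hz, fun hx => Subgroup.mem_map_of_mem _ hx⟩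
  -- minimality
  have hmin : ∀ X : Subgroup G, X.Normal → X ≤ M → X ≠ ⊥ → M ≤ X := fun X hXn hXM hX =>
    hred X hXn (hXM.trans hML) hX fun x hx => linear_kills_derived lam0 (hXM hx) x.2
  have hMab : ∀ a ∈ M, ∀ b ∈ M, a * b = b * a := by
    intro a ha b hb
    by_contra hab
    have hne2 : ⁅M, M⁆ ≠ ⊥ := fun h0 => hab (commutatorElement_eq_one_iff_mul_comm.1 (by
      have : ⁅a, b⁆ ∈ ⁅M, M⁆ := Subgroup.commutator_mem_commutator ha hb
      rwa [h0, Subgroup.mem_bot] at this))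
    exact (Group.IsSolvable.commutator_lt_of_ne_bot hne).not_ge
      (hmin _ (Subgroup.commutator_normal M M) (Subgroup.commutator_le_self M) hne2)
  obtain ⟨r, hr, hrd⟩ := Nat.exists_prime_and_dvd
    (fun h0 => hne (Subgroup.eq_bot_of_card_eq M h0) : Nat.card M ≠ 1)
  haveI := Fact.mk hr
  have hMr : ∀ m ∈ M, m ^ r = 1 := by
    let X : Subgroup G :=
      { carrier := {d | d ∈ M ∧ d ^ r = 1}
        one_mem' := ⟨one_mem _, one_pow _⟩
        mul_mem' := fun {a b} ha hb => ⟨mul_mem ha.1 hb.1, by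
          rw [(show Commute a b from hMab a ha.1 b hb.1).mul_pow, ha.2, hb.2, one_mul]⟩
        inv_mem' := fun {a} ha => ⟨inv_mem ha.1, by rw [inv_pow, ha.2, inv_one]⟩ }
    have hXn : X.Normal := ⟨fun d hd g => ⟨hMn.conj_mem d hd.1 g, by
      rw [conj_pow, hd.2, mul_one, mul_inv_cancel]⟩⟩
    have hX : X ≠ ⊥ := by
      obtain ⟨d, hd⟩ := exists_prime_orderOf_dvd_card' (G := M) r hrd
      intro h0
      have h1 : (d : G) ∈ X := ⟨d.2, by
        rw [← Subgroup.coe_pow, ← hd, pow_orderOf_eq_one, Subgroup.coe_one]⟩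
      rw [h0, Subgroup.mem_bot] at h1
      rw [show d = 1 from Subtype.ext h1, orderOf_one] at hd
      exact hr.one_lt.ne hd
    exact fun m hm => (hmin X hXn (fun d hd => hd.1) hX hm).2
  -- a nonlinear character and the element fixing it
  obtain ⟨φ, hφ⟩ : ∃ φ : IrrCharacter L, H12.degree (φ : L → ℂ) ≠ 1 := by
    by_contra hno
    simp only [not_exists, not_not] at hno
    apply hne
    rw [eq_bot_iff, hM, Subgroup.commutator_le]
    intro a ha b hb
    rw [Subgroup.mem_bot, commutatorElement_eq_one_iff_mul_comm]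
    exact congrArg Subtype.val (commutative_of_all_linear
      (fun θ : IrrCharacter L => by rw [H12.irr_apply_one, hno θ, Nat.cast_one])
      (⟨a, ha⟩ : L) ⟨b, hb⟩)
  obtain ⟨y, hyN, hyL, hyφ⟩ := exists_inertia hS φ hφ
  have hhy : ⁅h, y⁆ ∈ L := inertia_central hS φ (Or.inl hφ) hyN hyφ
  have hyc : ∀ g : G, ⁅g, y⁆ ∈ L := central_mod hS hyN hhy
  set c := L.relIndex N with hc
  have hsc' : Nat.Coprime c s := ((hs.coprime_iff_not_dvd).2 hsc).symm
  -- the module
  let δ : (L →* ℂˣ) →* (L →* ℂˣ) := MonoidHom.mk' (fun μ => H21.dualAct L y μ * μ⁻¹) (fun a b => by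
    refine MonoidHom.ext fun x => ?_
    simp only [map_mul, MonoidHom.mul_apply, MonoidHom.inv_apply, mul_inv_rev]
    rw [mul_assoc, mul_assoc, ← mul_assoc ((H21.dualAct L y) b x),
      mul_comm ((H21.dualAct L y) b x * _)])
  have hδ : ∀ μ x, δ μ x = H21.dualAct L y μ x * (μ x)⁻¹ := fun μ x => rfl
  let T : Subgroup (L →* ℂˣ) :=
    { carrier := {μ | μ ^ s = 1}
      one_mem' := one_pow _
      mul_mem' := fun {a b} (ha : a ^ s = 1) (hb : b ^ s = 1) => by
        show (a * b) ^ s = 1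
        rw [(Commute.all a b).mul_pow, ha, hb]
        exact one_mul (1 : L →* ℂˣ)
      inv_mem' := fun {a} (ha : a ^ s = 1) => by
        show a⁻¹ ^ s = 1
        rw [inv_pow, ha]
        exact inv_one (G := L →* ℂˣ) }
  set E := T.map δ with hE
  have hEs : ∀ μ ∈ E, μ ^ s = 1 := by
    rintro _ ⟨μ, hμ, rfl⟩
    rw [← map_pow, show μ ^ s = 1 from hμ, map_one]
  have hEinv : ∀ u ∈ N, ∀ μ ∈ E, H21.dualAct L u μ ∈ E := by
    rintro u - _ ⟨μ, hμ, rfl⟩
    refine ⟨H21.dualAct L u μ, ?_, ?_⟩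
    · show H21.dualAct L u μ ^ s = 1
      rw [← map_pow, show μ ^ s = 1 from hμ, map_one]
    · refine MonoidHom.ext fun x => ?_
      rw [hδ, ← act_comm μ (hyc u)]
      rfl
  have hEy : ∀ μ ∈ E, H21.dualAct L y μ = μ → μ = 1 := by
    rintro _ ⟨μ, hμ, rfl⟩ hfix
    have hk : ∀ k : ℕ, H21.dualAct L (y ^ k) μ = μ * δ μ ^ k := by
      intro k
      induction k with
      | zero => rw [pow_zero, map_one, MulAut.one_apply, pow_zero]; exact (mul_one μ).symm
      | succ k ih =>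
        have e : H21.dualAct L y μ = μ * δ μ := MonoidHom.ext fun x => by
          rw [MonoidHom.mul_apply, hδ, mul_comm, inv_mul_cancel_right]
        rw [pow_succ', map_mul, MulAut.mul_apply, ih, map_mul, map_pow, hfix, e]
        refine MonoidHom.ext fun x => ?_
        simp only [MonoidHom.mul_apply, MonoidHom.pow_apply]
        rw [pow_succ']
        exact mul_assoc _ _ _
    have h1 : δ μ ^ c = 1 := by
      have h2 := hk c
      rw [act_of_mem μ (mod_pow_mem hS hyN)] at h2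
      refine MonoidHom.ext fun x => ?_
      have h3 := DFunLike.congr_fun h2 x
      rw [MonoidHom.mul_apply] at h3
      rw [MonoidHom.one_apply]
      exact mul_eq_left.1 h3.symm
    exact orderOf_eq_one_iff.1 (Nat.eq_one_of_dvd_coprimes hsc' (orderOf_dvd_of_pow_eq_one h1)
      (orderOf_dvd_of_pow_eq_one (hEs _ ⟨μ, hμ, rfl⟩)))
  have hEfree : ∀ μ ∈ E, μ ≠ 1 → ∀ u ∈ N, H21.dualAct L u μ = μ → u ∈ L := fun μ hμ hμ1 u hu hfix =>
    stab_linear hS μ ⟨y, hyN, fun he => hμ1 (hEy μ hμ he)⟩ hu hfix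
  have hE1 : E ≠ ⊥ := fun h0 => by
    have h1 : δ lam0 ∈ E := ⟨lam0, hlam, rfl⟩
    rw [h0, Subgroup.mem_bot] at h1
    refine hyL (stab_linear hS lam0 hmv hyN (MonoidHom.ext fun x => ?_))
    have h2 := DFunLike.congr_fun h1 x
    rw [hδ, MonoidHom.one_apply, mul_inv_eq_one] at h2
    exact h2
  have hfix : ∀ φ : IrrCharacter L, H12.degree (φ : L → ℂ) ≠ 1 → ∀ μ ∈ E, μ ∈ fixChars φ :=
    fun φ hφ => twist_fixed hS hs E hEs hEinv hEfree hsc φ hφ
  -- the fixed points of `h`
  obtain ⟨F, hFE, hF1, hFF, hcov⟩ := cover_bound hS E hEinv hEfree hE1 hyN hyL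
  haveI := Fact.mk hs
  have hEp : IsPGroup s E := fun μ => ⟨1, Subtype.ext (by rw [pow_one]; exact hEs _ μ.2)⟩
  have hFs : s ≤ Nat.card F := by
    obtain ⟨⟨μ, hμ⟩, hμ1⟩ := F.ne_bot_iff_exists_ne_one.1 hF1
    have h1 := orderOf_eq_prime (hEs μ (hFE hμ)) (fun h0 => hμ1 (Subtype.ext h0))
    rw [← h1, ← Subgroup.orderOf_mk μ hμ]
    exact Nat.le_of_dvd Nat.card_pos (orderOf_dvd_natCard _)
  have hEcard : s < Nat.card E := lt_of_lt_of_le (lt_of_lt_of_le
    (show s < s * s by nlinarith [hs.two_le]) (Nat.mul_le_mul hFs hFs)) hFF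
  obtain ⟨hrs, hcen⟩ := derived_central hne hmin hr hMr hMab hs hEs hE1 hEcard hfix
  subst hrs
  -- `L` is an `r`-group
  have hL : ∃ k, Nat.card L = r ^ k := by
    refine IsPGroup.iff_card.1 fun g => ?_
    have hcentral : ∀ b : L, (orderOf b).Coprime r → ∀ x : L, Commute b x := by
      intro b hb x
      have hk : ∀ k : ℕ, ⁅(b : G) ^ k, (x : G)⁆ = ⁅(b : G), (x : G)⁆ ^ k := by
        intro k
        induction k with
        | zero => simp [commutatorElement_def]
        | succ k ih =>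
          have hmem : ⁅(b : G), (x : G)⁆ ∈ M := Subgroup.commutator_mem_commutator b.2 x.2
          calc ⁅(b : G) ^ (k + 1), (x : G)⁆
              = (b : G) ^ k * ⁅(b : G), (x : G)⁆ * ((b : G) ^ k)⁻¹ * ⁅(b : G) ^ k, (x : G)⁆ := by
                rw [pow_succ, commutatorElement_def, commutatorElement_def, commutatorElement_def]; group
            _ = ⁅(b : G), (x : G)⁆ * ⁅(b : G) ^ k, (x : G)⁆ := by
                rw [hcen _ (L.pow_mem b.2 k) _ hmem, mul_inv_cancel_right]
            _ = ⁅(b : G), (x : G)⁆ ^ (k + 1) := by rw [ih, pow_succ']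
      have h1 : ⁅(b : G), (x : G)⁆ ^ orderOf b = 1 := by
        rw [← hk, ← Subgroup.coe_pow, pow_orderOf_eq_one, Subgroup.coe_one]
        simp [commutatorElement_def]
      have h2 := hMr _ (Subgroup.commutator_mem_commutator b.2 x.2)
      have h3 : ⁅(b : G), (x : G)⁆ = 1 := orderOf_eq_one_iff.1 (Nat.eq_one_of_dvd_coprimes hb
        (orderOf_dvd_of_pow_eq_one h1) (orderOf_dvd_of_pow_eq_one h2))
      exact Subtype.ext (commutatorElement_eq_one_iff_mul_comm.1 h3)
    let X₀ : Subgroup L :=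
      { carrier := {b | (orderOf b).Coprime r}
        one_mem' := by simp
        mul_mem' := fun {a b} ha hb => Nat.Coprime.coprime_dvd_left
          (((hcentral a ha b).orderOf_mul_dvd_lcm).trans (Nat.lcm_dvd_mul _ _))
          (Nat.Coprime.mul_left ha hb)
        inv_mem' := fun {a} ha => by
          show (orderOf a⁻¹).Coprime r
          rw [orderOf_inv]; exact ha }
    let X : Subgroup G := X₀.map L.subtype
    have hXn : X.Normal := ⟨by
      rintro _ ⟨b, hb, rfl⟩ g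
      refine ⟨MulAut.conjNormal g b, ?_, MulAut.conjNormal_apply g b⟩
      show (orderOf (MulAut.conjNormal g b : L)).Coprime r
      rw [MulEquiv.orderOf_eq]
      exact hb⟩
    have hcop : ∀ {A : Type u} [Group A] (a : A), a ^ r = 1 → (orderOf a).Coprime r → a = 1 :=
      fun a h1 h2 => orderOf_eq_one_iff.1 (Nat.eq_one_of_dvd_coprimes h2 dvd_rfl
        (orderOf_dvd_of_pow_eq_one h1))
    have hX : X = ⊥ := by
      by_contra hX
      have h1 := hred X hXn (Subgroup.map_subtype_le _) hX fun x hx => by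
        obtain ⟨b, hb, e⟩ := hx
        obtain rfl : b = x := Subtype.ext e
        have h2 : lam0 b ^ r = 1 := DFunLike.congr_fun hlam b
        refine orderOf_eq_one_iff.1 (Nat.eq_one_of_dvd_coprimes
          (Nat.Coprime.coprime_dvd_left (orderOf_map_dvd lam0 b) hb) dvd_rfl
          (orderOf_dvd_of_pow_eq_one h2))
      obtain ⟨⟨m, hm⟩, hm1⟩ := M.ne_bot_iff_exists_ne_one.1 hne
      obtain ⟨b, hb, e⟩ := h1 hm
      apply hm1
      refine Subtype.ext ?_
      have e' : (b : G) = m := e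
      refine hcop m (hMr m hm) ?_
      rw [← e', Subgroup.orderOf_coe]
      exact hb
    refine ⟨(orderOf g).factorization r, ?_⟩
    have h2 : ((g ^ r ^ (orderOf g).factorization r : L) : G) ∈ X := by
      refine Subgroup.mem_map_of_mem L.subtype (x := g ^ r ^ (orderOf g).factorization r) ?_
      show (orderOf (g ^ r ^ (orderOf g).factorization r)).Coprime r
      refine (Nat.coprime_ordCompl hr (orderOf_pos g).ne').symm.coprime_dvd_left
        (orderOf_dvd_of_pow_eq_one ?_)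
      rw [← pow_mul, Nat.mul_div_cancel' (Nat.ordProj_dvd _ _), pow_orderOf_eq_one]
    rw [hX, Subgroup.mem_bot] at h2
    exact Subtype.ext h2
  obtain ⟨k, hk⟩ := hL
  -- `y` centralises `M`
  have hyM : ∀ m ∈ M, y * m = m * y := by
    let X : Subgroup G := M ⊓ Subgroup.centralizer ({y} : Set G)
    have hXn : X.Normal := ⟨fun m hm g => ⟨hMn.conj_mem m hm.1 g, by
      refine Subgroup.mem_centralizer_singleton_iff.2 ?_
      have hl : g⁻¹ * y * g * y⁻¹ ∈ L := by
        have h1 := hyc g⁻¹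
        rwa [commutatorElement_def, inv_inv] at h1
      have h1 : (g⁻¹ * y * g) * m = m * (g⁻¹ * y * g) := by
        calc (g⁻¹ * y * g) * m = (g⁻¹ * y * g * y⁻¹) * (y * m) := by group
          _ = (g⁻¹ * y * g * y⁻¹ * m) * y := by
            rw [← Subgroup.mem_centralizer_singleton_iff.1 hm.2]; group
          _ = _ := by rw [hcen _ hl m hm.1]; group
      calc g * m * g⁻¹ * y = g * (m * (g⁻¹ * y * g)) * g⁻¹ := by group
        _ = g * ((g⁻¹ * y * g) * m) * g⁻¹ := by rw [h1]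
        _ = y * (g * m * g⁻¹) := by group⟩⟩
    by_cases hX : X = ⊥
    swap
    · exact fun m hm => (Subgroup.mem_centralizer_singleton_iff.1
        (hmin X hXn inf_le_left hX hm).2).symm
    exfalso
    haveI := Fintype.ofFinite (commutator L)
    obtain ⟨θ, hθ⟩ := H13.exists_constituent (commutator L) (H12.isCharacter_irr φ)
      (H12.irr_ne_zero φ)
    have hcomL : ∀ (g : L) (x : commutator L), g * (x : L) = (x : L) * g := fun g x =>
      Subtype.ext (hcen _ g.2 _ ((hMcom x).2 x.2))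
    have hone : (θ : commutator L → ℂ) 1 = 1 := degree_one_of_commutative
      (G := commutator L) (fun a b => Subtype.ext (hcomL a b)) θ
    obtain ⟨ω, hω⟩ := H12.exists_monoidHom_of_apply_one_eq_one (H12.isCharacter_irr θ) hone
    have hres := clifford_res (commutator L) φ.2 θ.2 hθ {θ} (fun ψ => by
      have htw : ∀ x : L, twist (commutator L) x (θ : commutator L → ℂ) = (θ : commutator L → ℂ) := by
        intro x
        funext n
        rw [twist_apply]
        refine congrArg (θ : commutator L → ℂ) (Subtype.ext ?_)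
        show x * (n : L) * x⁻¹ = (n : L)
        rw [hcomL x n, mul_inv_cancel_right]
      rw [Finset.mem_singleton]
      exact ⟨fun e => ⟨1, by rw [e]; exact htw 1⟩, fun ⟨x, hx⟩ =>
        Subtype.ext ((htw x).symm.trans hx).symm⟩)
    rw [Finset.sum_singleton] at hres
    set κ := classInner (fun n : commutator L => (φ : L → ℂ) n) (θ : commutator L → ℂ) with hκ
    have hφM : ∀ x : commutator L, (φ : L → ℂ) x = κ * (ω x : ℂ) := fun x => by
      have h1 := congrFun hres x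
      rw [Pi.smul_apply, smul_eq_mul, ← hω] at h1
      exact h1
    -- `ω` is fixed by `y`
    have hωy : ∀ (x x' : commutator L), ((x' : L) : G) = y * ((x : L) : G) * y⁻¹ → ω x' = ω x := by
      intro x x' hx
      have h1 := congrFun ((mem_inertia L).1 hyφ) (x : L)
      rw [twist_apply] at h1
      have e : (⟨y * ((x : L) : G) * y⁻¹, Subgroup.Normal.conj_mem inferInstance _ (x : L).2 y⟩ : L) =
          (x' : L) := Subtype.ext hx.symm
      rw [e, hφM, hφM] at h1
      exact Units.ext (mul_left_cancel₀ hθ h1)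
    -- so it is trivial, by averaging over the powers of `y`
    apply hφ
    refine H4.ThreeDeg.degree_one_of_kills φ fun x hx => ?_
    have hmem : ∀ j : ℕ, ∀ m : G, m ∈ M → y ^ j * m * (y ^ j)⁻¹ ∈ M := fun j m hm =>
      hMn.conj_mem m hm _
    let cjp : ℕ → commutator L := fun j => ⟨⟨y ^ j * (x : G) * (y ^ j)⁻¹,
      hML (hmem j _ ((hMcom x).2 hx))⟩, (hMcom _).1 (hmem j _ ((hMcom x).2 hx))⟩
    have hval : ∀ j, ω (cjp j) = ω ⟨x, hx⟩ := by
      intro j
      induction j with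
      | zero => congr 1; exact Subtype.ext (Subtype.ext (by simp [cjp]))
      | succ j ih =>
        rw [← ih]
        refine hωy _ _ ?_
        show y ^ (j + 1) * (x : G) * (y ^ (j + 1))⁻¹ = y * (y ^ j * (x : G) * (y ^ j)⁻¹) * y⁻¹
        rw [pow_succ']; group
    letI : CommGroup M :=
      { (inferInstance : Group M) with
        mul_comm := fun a b => Subtype.ext (hMab _ a.2 _ b.2) }
    let e : M →* commutator L :=
      { toFun := fun m => ⟨⟨(m : G), hML m.2⟩, (hMcom _).1 m.2⟩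
        map_one' := rfl
        map_mul' := fun _ _ => rfl }
    let cm : M →* M := (MulAut.conjNormal y : M ≃* M).toMonoidHom
    set m₀ : M := ⟨(x : G), (hMcom x).2 hx⟩ with hm₀
    set P : M := ∏ j ∈ Finset.range c, (⟨y ^ j * (x : G) * (y ^ j)⁻¹,
      hmem j _ ((hMcom x).2 hx)⟩ : M) with hP
    have hPfix : cm P = P := by
      rw [hP, map_prod]
      have h6 := Finset.prod_range_succ' (fun j => (⟨y ^ j * (x : G) * (y ^ j)⁻¹,
        hmem j _ ((hMcom x).2 hx)⟩ : M)) c
      rw [Finset.prod_range_succ] at h6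
      have e0 : (⟨y ^ c * (x : G) * (y ^ c)⁻¹, hmem c _ ((hMcom x).2 hx)⟩ : M) =
          ⟨y ^ 0 * (x : G) * (y ^ 0)⁻¹, hmem 0 _ ((hMcom x).2 hx)⟩ := by
        apply Subtype.ext
        show y ^ c * (x : G) * (y ^ c)⁻¹ = y ^ 0 * (x : G) * (y ^ 0)⁻¹
        rw [hc, hcen _ (mod_pow_mem hS hyN) _ ((hMcom x).2 hx), mul_inv_cancel_right]
        simp
      rw [e0] at h6
      rw [mul_right_cancel h6]
      refine Finset.prod_congr rfl fun j _ => Subtype.ext ?_
      show y * (y ^ j * (x : G) * (y ^ j)⁻¹) * y⁻¹ = y ^ (j + 1) * (x : G) * (y ^ (j + 1))⁻¹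
      rw [pow_succ']; group
    have hP1 : P = 1 := by
      have h1 : (P : G) ∈ X := ⟨P.2, by
        refine Subgroup.mem_centralizer_singleton_iff.2 ?_
        have h2 : y * (P : G) * y⁻¹ = P := congrArg Subtype.val hPfix
        calc (P : G) * y = (y * (P : G) * y⁻¹) * y := by rw [h2]
          _ = y * (P : G) := by group⟩
      rw [hX, Subgroup.mem_bot] at h1
      exact Subtype.ext h1
    have h3 : ω ⟨x, hx⟩ ^ c = 1 := by
      have h4 := congrArg (ω.comp e) hP1
      rw [map_one, hP, map_prod] at h4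
      rw [← h4, ← Finset.card_range c, ← Finset.prod_const, Finset.card_range]
      exact (Finset.prod_congr rfl fun j _ => hval j).symm
    have h5 : ω ⟨x, hx⟩ ^ r = 1 := by
      rw [← map_pow, show (⟨x, hx⟩ : commutator L) ^ r = 1 from Subtype.ext (Subtype.ext (by
        simpa using hMr _ ((hMcom x).2 hx))), map_one]
    have h6 : ω ⟨x, hx⟩ = 1 := orderOf_eq_one_iff.1 (Nat.eq_one_of_dvd_coprimes hsc'
      (orderOf_dvd_of_pow_eq_one h3) (orderOf_dvd_of_pow_eq_one h5))
    rw [show (φ : L → ℂ) x = κ * (ω ⟨x, hx⟩ : ℂ) from hφM ⟨x, hx⟩, h6,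
      show (φ : L → ℂ) 1 = κ * (ω 1 : ℂ) from hφM 1, map_one]
  -- the injection of the dual of `M`
  obtain ⟨lamE, hlamE, a₀, ha₀⟩ : ∃ μ ∈ E, ∃ a₀ : L, H21.dualAct L y⁻¹ μ a₀ ≠ μ a₀ := by
    obtain ⟨⟨μ, hμ⟩, hμ1⟩ := E.ne_bot_iff_exists_ne_one.1 hE1
    refine ⟨μ, hμ, ?_⟩
    by_contra hno
    simp only [not_exists, not_not] at hno
    have h1 : H21.dualAct L y⁻¹ μ = μ := MonoidHom.ext hno
    refine hμ1 (Subtype.ext (hEy μ hμ ?_))
    conv_lhs => rw [← h1]
    rw [← MulAut.mul_apply, ← map_mul, mul_inv_cancel, map_one, MulAut.one_apply]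
  have hbL : y * (a₀ : G) * y⁻¹ ∈ L := Subgroup.Normal.conj_mem inferInstance _ a₀.2 y
  set a : L := a₀⁻¹ * ⟨y * (a₀ : G) * y⁻¹, hbL⟩ with ha
  have hlama : lamE a ≠ 1 := by
    intro h1
    apply ha₀
    rw [H21.dualAct_apply]
    rw [ha, map_mul, map_inv, inv_mul_eq_one] at h1
    refine Eq.trans ?_ h1.symm
    exact congrArg lamE (Subtype.ext (by simp))
  have hcm : ∀ u ∈ L, ∀ v ∈ L, ⁅u, v⁆ ∈ M := fun u hu v hv =>
    Subgroup.commutator_mem_commutator hu hv
  have hmulr : ∀ (x : L) (v w : L), (⟨⁅(x : G), ((v * w : L) : G)⁆, hcm _ x.2 _ (v * w).2⟩ : M) =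
      ⟨⁅(x : G), (v : G)⁆, hcm _ x.2 _ v.2⟩ * ⟨⁅(x : G), (w : G)⁆, hcm _ x.2 _ w.2⟩ := by
    intro x v w
    apply Subtype.ext
    show ⁅(x : G), (v : G) * w⁆ = ⁅(x : G), (v : G)⁆ * ⁅(x : G), (w : G)⁆
    have e : ⁅(x : G), (v : G) * w⁆ =
        ⁅(x : G), (v : G)⁆ * ((v : G) * ⁅(x : G), (w : G)⁆ * (v : G)⁻¹) := by
      simp [commutatorElement_def, mul_assoc]
    rw [e, hcen _ v.2 _ (hcm _ x.2 _ w.2), mul_inv_cancel_right]
  have hmull : ∀ (u v w : L), ⁅((u * v : L) : G), (w : G)⁆ =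
      ⁅(v : G), (w : G)⁆ * ⁅(u : G), (w : G)⁆ := by
    intro u v w
    have e : ⁅(u : G) * v, (w : G)⁆ =
        (u : G) * ⁅(v : G), (w : G)⁆ * (u : G)⁻¹ * ⁅(u : G), (w : G)⁆ := by
      simp [commutatorElement_def, mul_assoc]
    rw [Subgroup.coe_mul, e, hcen _ u.2 _ (hcm _ v.2 _ w.2), mul_inv_cancel_right]
  let Δ : L → (M →* ℂˣ) → (L →* ℂˣ) := fun x ω => MonoidHom.mk'
    (fun g => ω ⟨⁅(x : G), (g : G)⁆, hcm _ x.2 _ g.2⟩) (fun v w => by rw [hmulr, map_mul])
  have hΔs : ∀ x ω, Δ x ω ^ r = 1 := fun x ω => MonoidHom.ext fun g => by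
    rw [MonoidHom.pow_apply, MonoidHom.one_apply]
    show ω _ ^ r = 1
    rw [← map_pow, show (⟨⁅(x : G), (g : G)⁆, hcm _ x.2 _ g.2⟩ : M) ^ r = 1 from
      Subtype.ext (hMr _ (hcm _ x.2 _ g.2)), map_one]
  have hΔE : ∀ ω, Δ a ω ∈ E := by
    intro ω
    refine ⟨Δ a₀ ω, hΔs a₀ ω, MonoidHom.ext fun g => ?_⟩
    rw [hδ, H21.dualAct_apply]
    show ω _ * (ω _)⁻¹ = ω _
    rw [← map_inv, ← map_mul]
    congr 1
    apply Subtype.ext
    show ⁅(a₀ : G), y⁻¹ * (g : G) * y⁆ * ⁅(a₀ : G), (g : G)⁆⁻¹ = ⁅(a : G), (g : G)⁆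
    rw [ha, hmull]
    have e1 : ⁅((a₀⁻¹ : L) : G), (g : G)⁆ = ⁅(a₀ : G), (g : G)⁆⁻¹ := by
      have h1 := hmull a₀⁻¹ a₀ g
      rw [inv_mul_cancel, Subgroup.coe_one, commutatorElement_one_left] at h1
      exact (inv_eq_of_mul_eq_one_right h1.symm).symm
    have e2 : ⁅y * (a₀ : G) * y⁻¹, (g : G)⁆ = ⁅(a₀ : G), y⁻¹ * (g : G) * y⁆ := by
      have hv : y⁻¹ * (g : G) * y ∈ L := by
        simpa using Subgroup.Normal.conj_mem inferInstance _ g.2 y⁻¹
      have h1 : ⁅y * (a₀ : G) * y⁻¹, (g : G)⁆ = y * ⁅(a₀ : G), y⁻¹ * (g : G) * y⁆ * y⁻¹ := by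
        simp [commutatorElement_def, mul_assoc]
      rw [h1, hyM _ (hcm _ a₀.2 _ hv), mul_inv_cancel_right]
    rw [e1]
    exact congrArg (· * ⁅(a₀ : G), (g : G)⁆⁻¹) e2.symm
  haveI := finite_linear M
  have hMdual : Nat.card (M →* ℂˣ) = Nat.card M :=
    card_dual_of_comm fun u v => Subtype.ext (hMab _ u.2 _ v.2)
  have hlt : Nat.card (M →* ℂˣ) < Nat.card E := by
    have hΔa : ∀ ω, Δ a ω a = 1 := fun ω => by
      show ω _ = 1
      rw [show (⟨⁅(a : G), (a : G)⁆, hcm _ a.2 _ a.2⟩ : M) = 1 from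
        Subtype.ext (commutatorElement_self _), map_one]
    let Ea := {μ : E // (μ : L →* ℂˣ) a = 1}
    have h1 : Nat.card (M →* ℂˣ) ≤ Nat.card Ea := by
      refine Nat.card_le_card_of_injective
        (fun ω => (⟨⟨Δ a ω, hΔE ω⟩, hΔa ω⟩ : Ea)) fun ω ω' hωω => ?_
      refine MonoidHom.ext fun m => ?_
      obtain ⟨g, hg⟩ := exists_commutator_eq hfix ⟨lamE, hlamE, hlama⟩ m.2
      have h2 := DFunLike.congr_fun (congrArg (fun e : Ea => (e.1 : L →* ℂˣ)) hωω) g
      change ω ⟨⁅(a : G), (g : G)⁆, _⟩ = ω' ⟨⁅(a : G), (g : G)⁆, _⟩ at h2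
      rwa [show (⟨⁅(a : G), (g : G)⁆, hcm _ a.2 _ g.2⟩ : M) = m from Subtype.ext hg] at h2
    refine lt_of_le_of_lt h1 ?_
    haveI := Fintype.ofFinite E
    rw [Nat.card_eq_fintype_card, Nat.card_eq_fintype_card]
    exact Fintype.card_subtype_lt (x := ⟨lamE, hlamE⟩) hlama
  -- the stabilisers in `N` of the characters of `M`
  have hstab : (fixMod N L h).relIndex N ∣ Nat.card (M →* ℂˣ) - 1 := by
    have h1 := index_dvd_card_sub_one ((H21.dualAct M).comp N.subtype) (⊤ : Subgroup (M →* ℂˣ))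
      ((fixMod N L h).subgroupOf N) (fun _ _ _ => Subgroup.mem_top _)
      (fun ω _ hω (z : N) (hzω : H21.dualAct M (z : G) ω = ω) => by
        rw [Subgroup.mem_subgroupOf, ← inv_mem_iff]
        have hfixω : H21.dualAct M (z : G)⁻¹ ω = ω := by
          conv_lhs => rw [← show H21.dualAct M (z : G) ω = ω from hzω]
          rw [← MulAut.mul_apply, ← map_mul, inv_mul_cancel, map_one, MulAut.one_apply]
        let e : commutator L →* M :=
          { toFun := fun m => ⟨((m : L) : G), (hMcom m).2 m.2⟩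
            map_one' := rfl
            map_mul' := fun _ _ => rfl }
        refine exists_fixed_over hS hr hsc hk hcen (N.inv_mem z.2) (ω.comp e) ?_ ?_
        · intro h0
          refine hω (MonoidHom.ext fun m => ?_)
          have h3 := DFunLike.congr_fun h0 ⟨⟨(m : G), hML m.2⟩, (hMcom _).1 m.2⟩
          exact h3
        · intro m hm
          have h2 := DFunLike.congr_fun (show H21.dualAct M (z : G) ω = ω from hzω) (e m)
          rw [H21.dualAct_apply] at h2
          rw [MonoidHom.comp_apply, MonoidHom.comp_apply]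
          refine Eq.trans ?_ h2
          exact congrArg ω (Subtype.ext (by simp [e])))
    rw [Subgroup.card_top] at h1
    exact h1
  have hstabE : (fixMod N L h).relIndex N ∣ Nat.card E - 1 :=
    index_dvd_card_sub_one ((H21.dualAct L).comp N.subtype) E ((fixMod N L h).subgroupOf N)
      (fun u μ hμ => hEinv u u.2 μ hμ)
      (fun μ hμ hμ1 u hu => Subgroup.mem_subgroupOf.2 (le_fixMod hS (hEfree μ hμ hμ1 u u.2 hu)))
  obtain ⟨n, hn⟩ := IsPGroup.iff_card.1 hEp
  have hMp : IsPGroup r M := fun m => ⟨1, Subtype.ext (by rw [pow_one]; exact hMr _ m.2)⟩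
  obtain ⟨d, hd⟩ := IsPGroup.iff_card.1 hMp
  rw [hn] at hFF hcov hstabE hlt
  rw [hMdual, hd] at hstab hlt
  have hd1 : 1 ≤ d := by
    by_contra h0
    rw [show d = 0 by omega, pow_zero] at hd
    exact hne (Subgroup.eq_bot_of_card_eq M hd)
  exact false_of_bounds hr.one_lt hstabE hstab hd1
    ((Nat.pow_lt_pow_iff_right hr.one_lt).1 hlt) (lt_of_lt_of_le hr.one_lt hFs) hFF hcov

end H4.NoDiv
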